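import Cfsg.Agent.Lib.InvTorus.Classes
import Cfsg.Agent.Lib.Chev.OrderE8

/-!
The certificates for type E8.
-/

set_option autoImplicit false
set_option maxRecDepth 100000
set_option maxHeartbeats 4000000

namespace CfsgLib.InvTorus.E8

open Cfsg.Lie CfsgLib.Chev

/-- The Cartan matrix. -/
def M (i j : Fin 8) : ℤ :=
  ([[2, 0, -1, 0, 0, 0, 0, 0],
    [0, 2, 0, -1, 0, 0, 0, 0],
    [-1, 0, 2, -1, 0, 0, 0, 0],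
    [0, -1, -1, 2, -1, 0, 0, 0],
    [0, 0, 0, -1, 2, -1, 0, 0],
    [0, 0, 0, 0, -1, 2, -1, 0],
    [0, 0, 0, 0, 0, -1, 2, -1],
    [0, 0, 0, 0, 0, 0, -1, 2]].getD i.val []).getD j.val 0

/-- Its inverse. -/
def Ainv (i j : Fin 8) : ℤ :=
  ([[4, 5, 7, 10, 8, 6, 4, 2],
    [5, 8, 10, 15, 12, 9, 6, 3],
    [7, 10, 14, 20, 16, 12, 8, 4],
    [10, 15, 20, 30, 24, 18, 12, 6],
    [8, 12, 16, 24, 20, 15, 10, 5],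
    [6, 9, 12, 18, 15, 12, 8, 4],
    [4, 6, 8, 12, 10, 8, 6, 3],
    [2, 3, 4, 6, 5, 4, 3, 2]].getD i.val []).getD j.val 0

/-- A part of a table. -/
def Vl_p0 : List (List ℤ) :=
  [[-2, -3, -4, -6, -5, -4, -3, -2],
   [-2, -3, -4, -6, -5, -4, -3, -1],
   [-2, -3, -4, -6, -5, -4, -2, -1],
   [-2, -3, -4, -6, -5, -3, -2, -1],
   [-2, -3, -4, -6, -4, -3, -2, -1],
   [-2, -3, -4, -5, -4, -3, -2, -1],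
   [-2, -3, -3, -5, -4, -3, -2, -1],
   [-2, -2, -4, -5, -4, -3, -2, -1],
   [-2, -2, -3, -5, -4, -3, -2, -1],
   [-2, -2, -3, -4, -4, -3, -2, -1],
   [-2, -2, -3, -4, -3, -3, -2, -1],
   [-2, -2, -3, -4, -3, -2, -2, -1],
   [-2, -2, -3, -4, -3, -2, -1, -1],
   [-2, -2, -3, -4, -3, -2, -1, 0],
   [-1, -3, -3, -5, -4, -3, -2, -1],
   [-1, -2, -3, -5, -4, -3, -2, -1]]

/-- A part of a table. -/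
def Vl_p1 : List (List ℤ) :=
  [[-1, -2, -3, -4, -4, -3, -2, -1],
   [-1, -2, -3, -4, -3, -3, -2, -1],
   [-1, -2, -3, -4, -3, -2, -2, -1],
   [-1, -2, -3, -4, -3, -2, -1, -1],
   [-1, -2, -3, -4, -3, -2, -1, 0],
   [-1, -2, -2, -4, -4, -3, -2, -1],
   [-1, -2, -2, -4, -3, -3, -2, -1],
   [-1, -2, -2, -4, -3, -2, -2, -1],
   [-1, -2, -2, -4, -3, -2, -1, -1],
   [-1, -2, -2, -4, -3, -2, -1, 0],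
   [-1, -2, -2, -3, -3, -3, -2, -1],
   [-1, -2, -2, -3, -3, -2, -2, -1],
   [-1, -2, -2, -3, -3, -2, -1, -1],
   [-1, -2, -2, -3, -3, -2, -1, 0],
   [-1, -2, -2, -3, -2, -2, -2, -1],
   [-1, -2, -2, -3, -2, -2, -1, -1]]

/-- A part of a table. -/
def Vl_p2 : List (List ℤ) :=
  [[-1, -2, -2, -3, -2, -2, -1, 0],
   [-1, -2, -2, -3, -2, -1, -1, -1],
   [-1, -2, -2, -3, -2, -1, -1, 0],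
   [-1, -2, -2, -3, -2, -1, 0, 0],
   [-1, -1, -2, -3, -3, -3, -2, -1],
   [-1, -1, -2, -3, -3, -2, -2, -1],
   [-1, -1, -2, -3, -3, -2, -1, -1],
   [-1, -1, -2, -3, -3, -2, -1, 0],
   [-1, -1, -2, -3, -2, -2, -2, -1],
   [-1, -1, -2, -3, -2, -2, -1, -1],
   [-1, -1, -2, -3, -2, -2, -1, 0],
   [-1, -1, -2, -3, -2, -1, -1, -1],
   [-1, -1, -2, -3, -2, -1, -1, 0],
   [-1, -1, -2, -3, -2, -1, 0, 0],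
   [-1, -1, -2, -2, -2, -2, -2, -1],
   [-1, -1, -2, -2, -2, -2, -1, -1]]

/-- A part of a table. -/
def Vl_p3 : List (List ℤ) :=
  [[-1, -1, -2, -2, -2, -2, -1, 0],
   [-1, -1, -2, -2, -2, -1, -1, -1],
   [-1, -1, -2, -2, -2, -1, -1, 0],
   [-1, -1, -2, -2, -2, -1, 0, 0],
   [-1, -1, -2, -2, -1, -1, -1, -1],
   [-1, -1, -2, -2, -1, -1, -1, 0],
   [-1, -1, -2, -2, -1, -1, 0, 0],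
   [-1, -1, -2, -2, -1, 0, 0, 0],
   [-1, -1, -1, -2, -2, -2, -2, -1],
   [-1, -1, -1, -2, -2, -2, -1, -1],
   [-1, -1, -1, -2, -2, -2, -1, 0],
   [-1, -1, -1, -2, -2, -1, -1, -1],
   [-1, -1, -1, -2, -2, -1, -1, 0],
   [-1, -1, -1, -2, -2, -1, 0, 0],
   [-1, -1, -1, -2, -1, -1, -1, -1],
   [-1, -1, -1, -2, -1, -1, -1, 0]]

/-- A part of a table. -/
def Vl_p4 : List (List ℤ) :=
  [[-1, -1, -1, -2, -1, -1, 0, 0],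
   [-1, -1, -1, -2, -1, 0, 0, 0],
   [-1, -1, -1, -1, -1, -1, -1, -1],
   [-1, -1, -1, -1, -1, -1, -1, 0],
   [-1, -1, -1, -1, -1, -1, 0, 0],
   [-1, -1, -1, -1, -1, 0, 0, 0],
   [-1, -1, -1, -1, 0, 0, 0, 0],
   [-1, 0, -1, -1, -1, -1, -1, -1],
   [-1, 0, -1, -1, -1, -1, -1, 0],
   [-1, 0, -1, -1, -1, -1, 0, 0],
   [-1, 0, -1, -1, -1, 0, 0, 0],
   [-1, 0, -1, -1, 0, 0, 0, 0],
   [-1, 0, -1, 0, 0, 0, 0, 0],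
   [-1, 0, 0, 0, 0, 0, 0, 0],
   [0, -1, -1, -2, -2, -2, -2, -1],
   [0, -1, -1, -2, -2, -2, -1, -1]]

/-- A part of a table. -/
def Vl_p5 : List (List ℤ) :=
  [[0, -1, -1, -2, -2, -2, -1, 0],
   [0, -1, -1, -2, -2, -1, -1, -1],
   [0, -1, -1, -2, -2, -1, -1, 0],
   [0, -1, -1, -2, -2, -1, 0, 0],
   [0, -1, -1, -2, -1, -1, -1, -1],
   [0, -1, -1, -2, -1, -1, -1, 0],
   [0, -1, -1, -2, -1, -1, 0, 0],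
   [0, -1, -1, -2, -1, 0, 0, 0],
   [0, -1, -1, -1, -1, -1, -1, -1],
   [0, -1, -1, -1, -1, -1, -1, 0],
   [0, -1, -1, -1, -1, -1, 0, 0],
   [0, -1, -1, -1, -1, 0, 0, 0],
   [0, -1, -1, -1, 0, 0, 0, 0],
   [0, -1, 0, -1, -1, -1, -1, -1],
   [0, -1, 0, -1, -1, -1, -1, 0],
   [0, -1, 0, -1, -1, -1, 0, 0]]

/-- A part of a table. -/
def Vl_p6 : List (List ℤ) :=
  [[0, -1, 0, -1, -1, 0, 0, 0],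
   [0, -1, 0, -1, 0, 0, 0, 0],
   [0, -1, 0, 0, 0, 0, 0, 0],
   [0, 0, -1, -1, -1, -1, -1, -1],
   [0, 0, -1, -1, -1, -1, -1, 0],
   [0, 0, -1, -1, -1, -1, 0, 0],
   [0, 0, -1, -1, -1, 0, 0, 0],
   [0, 0, -1, -1, 0, 0, 0, 0],
   [0, 0, -1, 0, 0, 0, 0, 0],
   [0, 0, 0, -1, -1, -1, -1, -1],
   [0, 0, 0, -1, -1, -1, -1, 0],
   [0, 0, 0, -1, -1, -1, 0, 0],
   [0, 0, 0, -1, -1, 0, 0, 0],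
   [0, 0, 0, -1, 0, 0, 0, 0],
   [0, 0, 0, 0, -1, -1, -1, -1],
   [0, 0, 0, 0, -1, -1, -1, 0]]

/-- A part of a table. -/
def Vl_p7 : List (List ℤ) :=
  [[0, 0, 0, 0, -1, -1, 0, 0],
   [0, 0, 0, 0, -1, 0, 0, 0],
   [0, 0, 0, 0, 0, -1, -1, -1],
   [0, 0, 0, 0, 0, -1, -1, 0],
   [0, 0, 0, 0, 0, -1, 0, 0],
   [0, 0, 0, 0, 0, 0, -1, -1],
   [0, 0, 0, 0, 0, 0, -1, 0],
   [0, 0, 0, 0, 0, 0, 0, -1],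
   [0, 0, 0, 0, 0, 0, 0, 1],
   [0, 0, 0, 0, 0, 0, 1, 0],
   [0, 0, 0, 0, 0, 0, 1, 1],
   [0, 0, 0, 0, 0, 1, 0, 0],
   [0, 0, 0, 0, 0, 1, 1, 0],
   [0, 0, 0, 0, 0, 1, 1, 1],
   [0, 0, 0, 0, 1, 0, 0, 0],
   [0, 0, 0, 0, 1, 1, 0, 0]]

/-- A part of a table. -/
def Vl_p8 : List (List ℤ) :=
  [[0, 0, 0, 0, 1, 1, 1, 0],
   [0, 0, 0, 0, 1, 1, 1, 1],
   [0, 0, 0, 1, 0, 0, 0, 0],
   [0, 0, 0, 1, 1, 0, 0, 0],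
   [0, 0, 0, 1, 1, 1, 0, 0],
   [0, 0, 0, 1, 1, 1, 1, 0],
   [0, 0, 0, 1, 1, 1, 1, 1],
   [0, 0, 1, 0, 0, 0, 0, 0],
   [0, 0, 1, 1, 0, 0, 0, 0],
   [0, 0, 1, 1, 1, 0, 0, 0],
   [0, 0, 1, 1, 1, 1, 0, 0],
   [0, 0, 1, 1, 1, 1, 1, 0],
   [0, 0, 1, 1, 1, 1, 1, 1],
   [0, 1, 0, 0, 0, 0, 0, 0],
   [0, 1, 0, 1, 0, 0, 0, 0],
   [0, 1, 0, 1, 1, 0, 0, 0]]

/-- A part of a table. -/
def Vl_p9 : List (List ℤ) :=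
  [[0, 1, 0, 1, 1, 1, 0, 0],
   [0, 1, 0, 1, 1, 1, 1, 0],
   [0, 1, 0, 1, 1, 1, 1, 1],
   [0, 1, 1, 1, 0, 0, 0, 0],
   [0, 1, 1, 1, 1, 0, 0, 0],
   [0, 1, 1, 1, 1, 1, 0, 0],
   [0, 1, 1, 1, 1, 1, 1, 0],
   [0, 1, 1, 1, 1, 1, 1, 1],
   [0, 1, 1, 2, 1, 0, 0, 0],
   [0, 1, 1, 2, 1, 1, 0, 0],
   [0, 1, 1, 2, 1, 1, 1, 0],
   [0, 1, 1, 2, 1, 1, 1, 1],
   [0, 1, 1, 2, 2, 1, 0, 0],
   [0, 1, 1, 2, 2, 1, 1, 0],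
   [0, 1, 1, 2, 2, 1, 1, 1],
   [0, 1, 1, 2, 2, 2, 1, 0]]

/-- A part of a table. -/
def Vl_p10 : List (List ℤ) :=
  [[0, 1, 1, 2, 2, 2, 1, 1],
   [0, 1, 1, 2, 2, 2, 2, 1],
   [1, 0, 0, 0, 0, 0, 0, 0],
   [1, 0, 1, 0, 0, 0, 0, 0],
   [1, 0, 1, 1, 0, 0, 0, 0],
   [1, 0, 1, 1, 1, 0, 0, 0],
   [1, 0, 1, 1, 1, 1, 0, 0],
   [1, 0, 1, 1, 1, 1, 1, 0],
   [1, 0, 1, 1, 1, 1, 1, 1],
   [1, 1, 1, 1, 0, 0, 0, 0],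
   [1, 1, 1, 1, 1, 0, 0, 0],
   [1, 1, 1, 1, 1, 1, 0, 0],
   [1, 1, 1, 1, 1, 1, 1, 0],
   [1, 1, 1, 1, 1, 1, 1, 1],
   [1, 1, 1, 2, 1, 0, 0, 0],
   [1, 1, 1, 2, 1, 1, 0, 0]]

/-- A part of a table. -/
def Vl_p11 : List (List ℤ) :=
  [[1, 1, 1, 2, 1, 1, 1, 0],
   [1, 1, 1, 2, 1, 1, 1, 1],
   [1, 1, 1, 2, 2, 1, 0, 0],
   [1, 1, 1, 2, 2, 1, 1, 0],
   [1, 1, 1, 2, 2, 1, 1, 1],
   [1, 1, 1, 2, 2, 2, 1, 0],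
   [1, 1, 1, 2, 2, 2, 1, 1],
   [1, 1, 1, 2, 2, 2, 2, 1],
   [1, 1, 2, 2, 1, 0, 0, 0],
   [1, 1, 2, 2, 1, 1, 0, 0],
   [1, 1, 2, 2, 1, 1, 1, 0],
   [1, 1, 2, 2, 1, 1, 1, 1],
   [1, 1, 2, 2, 2, 1, 0, 0],
   [1, 1, 2, 2, 2, 1, 1, 0],
   [1, 1, 2, 2, 2, 1, 1, 1],
   [1, 1, 2, 2, 2, 2, 1, 0]]

/-- A part of a table. -/
def Vl_p12 : List (List ℤ) :=
  [[1, 1, 2, 2, 2, 2, 1, 1],
   [1, 1, 2, 2, 2, 2, 2, 1],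
   [1, 1, 2, 3, 2, 1, 0, 0],
   [1, 1, 2, 3, 2, 1, 1, 0],
   [1, 1, 2, 3, 2, 1, 1, 1],
   [1, 1, 2, 3, 2, 2, 1, 0],
   [1, 1, 2, 3, 2, 2, 1, 1],
   [1, 1, 2, 3, 2, 2, 2, 1],
   [1, 1, 2, 3, 3, 2, 1, 0],
   [1, 1, 2, 3, 3, 2, 1, 1],
   [1, 1, 2, 3, 3, 2, 2, 1],
   [1, 1, 2, 3, 3, 3, 2, 1],
   [1, 2, 2, 3, 2, 1, 0, 0],
   [1, 2, 2, 3, 2, 1, 1, 0],
   [1, 2, 2, 3, 2, 1, 1, 1],
   [1, 2, 2, 3, 2, 2, 1, 0]]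

/-- A part of a table. -/
def Vl_p13 : List (List ℤ) :=
  [[1, 2, 2, 3, 2, 2, 1, 1],
   [1, 2, 2, 3, 2, 2, 2, 1],
   [1, 2, 2, 3, 3, 2, 1, 0],
   [1, 2, 2, 3, 3, 2, 1, 1],
   [1, 2, 2, 3, 3, 2, 2, 1],
   [1, 2, 2, 3, 3, 3, 2, 1],
   [1, 2, 2, 4, 3, 2, 1, 0],
   [1, 2, 2, 4, 3, 2, 1, 1],
   [1, 2, 2, 4, 3, 2, 2, 1],
   [1, 2, 2, 4, 3, 3, 2, 1],
   [1, 2, 2, 4, 4, 3, 2, 1],
   [1, 2, 3, 4, 3, 2, 1, 0],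
   [1, 2, 3, 4, 3, 2, 1, 1],
   [1, 2, 3, 4, 3, 2, 2, 1],
   [1, 2, 3, 4, 3, 3, 2, 1],
   [1, 2, 3, 4, 4, 3, 2, 1]]

/-- A part of a table. -/
def Vl_p14 : List (List ℤ) :=
  [[1, 2, 3, 5, 4, 3, 2, 1],
   [1, 3, 3, 5, 4, 3, 2, 1],
   [2, 2, 3, 4, 3, 2, 1, 0],
   [2, 2, 3, 4, 3, 2, 1, 1],
   [2, 2, 3, 4, 3, 2, 2, 1],
   [2, 2, 3, 4, 3, 3, 2, 1],
   [2, 2, 3, 4, 4, 3, 2, 1],
   [2, 2, 3, 5, 4, 3, 2, 1],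
   [2, 2, 4, 5, 4, 3, 2, 1],
   [2, 3, 3, 5, 4, 3, 2, 1],
   [2, 3, 4, 5, 4, 3, 2, 1],
   [2, 3, 4, 6, 4, 3, 2, 1],
   [2, 3, 4, 6, 5, 3, 2, 1],
   [2, 3, 4, 6, 5, 4, 2, 1],
   [2, 3, 4, 6, 5, 4, 3, 1],
   [2, 3, 4, 6, 5, 4, 3, 2]]

/-- The coordinates of the roots. -/
def Vl : List (List ℤ) :=
  Vl_p0 ++ Vl_p1 ++ Vl_p2 ++ Vl_p3 ++ Vl_p4 ++ Vl_p5 ++ Vl_p6 ++ Vl_p7 ++ Vl_p8 ++ Vl_p9 ++ Vl_p10 ++ Vl_p11 ++ Vl_p12 ++ Vl_p13 ++ Vl_p14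

/-- The table of roots. -/
def tab : RootTab Cfsg.Lie.chevE8 where
  M := M
  Ainv := Ainv
  Vl := Vl
  hlen := by decide +kernel
  hM := show ∀ a b : Fin 8, Cfsg.Lie.chevE8.cartan a.val (Cfsg.Lie.chevE8.simple b.val) = M a b by decide +kernel
  hinv := show ∀ j k : Fin 8, ∑ i, Ainv j i * M i k = if j = k then 1 else 0 by decide +kernel
  hV := show ∀ (i : Fin 8) (r : Fin 240), Cfsg.Lie.chevE8.cartan i.val r.val = ∑ k, M i k * Cert.get (Vl.getD r.val []) k by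
    decide +kernel

/-- The data of class 1. -/
def base1 : BaseTab Cfsg.Lie.chevE8 8 where
  e := fun i : Fin 8 => [0, 0, 0, 0, 0, 1, 0, 0].getD i.val 0
  βi := fun m : Fin 8 => ([120, 121, 126, 130, 135, 141, 159, 162] : List (Fin 240)).getD m.val 0
  βV := fun m : Fin 8 => [[0, 0, 0, 0, 0, 0, 0, 1],
    [0, 0, 0, 0, 0, 0, 1, 0],
    [0, 0, 0, 0, 1, 0, 0, 0],
    [0, 0, 0, 1, 0, 0, 0, 0],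
    [0, 0, 1, 0, 0, 0, 0, 0],
    [0, 1, 0, 0, 0, 0, 0, 0],
    [0, 1, 1, 2, 2, 2, 1, 0],
    [1, 0, 0, 0, 0, 0, 0, 0]].getD m.val []
  βC := fun m : Fin 8 => [[0, 0, 0, 0, 0, 0, 0, 1],
    [0, 0, 0, 0, 0, 0, 1, 0],
    [0, 0, 0, 0, 1, 0, 0, 0],
    [0, 0, 0, 1, 0, 0, 0, 0],
    [0, 0, 1, 0, 0, 0, 0, 0],
    [0, 1, 0, 0, 0, 0, 0, 0],
    [0, 1, 1, 2, 2, 2, 1, 0],
    [1, 0, 0, 0, 0, 0, 0, 0]].getD m.val []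
  Q := fun m : Fin 8 => [[0, 0, 0, 0, 0, 0, 0, 2],
    [0, 0, 0, 0, 0, -1, 2, 0],
    [0, 0, 0, 0, 2, -2, 0, 0],
    [0, 0, 0, 2, 0, -2, 0, 0],
    [0, 0, 2, 0, 0, -1, 0, 0],
    [0, 2, 0, 0, 0, -1, 0, 0],
    [0, 0, 0, 0, 0, 1, 0, 0],
    [2, 0, 0, 0, 0, 0, 0, 0]].getD m.val []
  d := 2
  N := 56

/-- A part of a table. -/
def orb1_p0 : Cert.Orbit :=
  [([0, 0, 0, 0, 0, 1, 0, 0], 0),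
   ([0, 0, 0, 0, 1, 1, 1, 0], 1),
   ([0, 0, 0, 1, 1, 0, 1, 0], 2),
   ([0, 0, 0, 0, 1, 0, 1, 1], 2),
   ([0, 1, 1, 1, 0, 0, 1, 0], 3),
   ([0, 0, 0, 1, 1, 1, 1, 1], 3),
   ([0, 0, 0, 0, 1, 0, 0, 1], 3),
   ([0, 1, 1, 0, 0, 0, 1, 0], 4),
   ([1, 1, 1, 0, 0, 0, 1, 0], 4),
   ([0, 1, 1, 1, 0, 1, 1, 1], 4),
   ([0, 0, 0, 1, 0, 1, 0, 1], 4),
   ([0, 0, 0, 1, 1, 1, 0, 1], 4),
   ([1, 1, 1, 1, 0, 0, 1, 0], 5),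
   ([0, 1, 1, 0, 0, 1, 1, 1], 5),
   ([1, 1, 0, 0, 0, 0, 1, 0], 5),
   ([1, 1, 1, 0, 0, 1, 1, 1], 5)]

/-- A part of a table. -/
def orb1_p1 : Cert.Orbit :=
  [([0, 1, 1, 1, 1, 1, 0, 1], 5),
   ([0, 1, 1, 1, 0, 1, 0, 1], 5),
   ([0, 0, 0, 1, 0, 1, 1, 1], 5),
   ([1, 1, 0, 1, 0, 0, 1, 0], 6),
   ([1, 0, 0, 1, 1, 0, 1, 0], 6),
   ([1, 1, 1, 1, 0, 1, 1, 1], 6),
   ([0, 1, 1, 0, 1, 1, 0, 1], 6),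
   ([0, 1, 1, 0, 0, 1, 0, 1], 6),
   ([1, 1, 0, 0, 0, 1, 1, 1], 6),
   ([1, 1, 1, 0, 1, 1, 0, 1], 6),
   ([1, 1, 1, 0, 0, 1, 0, 1], 6),
   ([0, 1, 1, 0, 1, 0, 0, 1], 6),
   ([0, 1, 1, 1, 1, 1, 1, 1], 6),
   ([0, 0, 0, 1, 0, 0, 1, 0], 6),
   ([1, 0, 1, 1, 1, 0, 1, 0], 7),
   ([1, 1, 0, 1, 0, 1, 1, 1], 7)]

/-- A part of a table. -/
def orb1_p2 : Cert.Orbit :=
  [([1, 0, 0, 0, 1, 1, 1, 0], 7),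
   ([1, 0, 0, 1, 1, 1, 1, 1], 7),
   ([1, 1, 1, 1, 1, 1, 0, 1], 7),
   ([1, 1, 1, 1, 0, 1, 0, 1], 7),
   ([0, 1, 1, 1, 1, 0, 0, 1], 7),
   ([0, 1, 1, 0, 1, 1, 1, 1], 7),
   ([1, 1, 0, 0, 1, 1, 0, 1], 7),
   ([1, 1, 0, 0, 0, 1, 0, 1], 7),
   ([1, 1, 1, 1, 1, 0, 0, 1], 7),
   ([1, 1, 1, 0, 1, 1, 1, 1], 7),
   ([0, 1, 1, 0, 1, 0, 1, 1], 7),
   ([0, 1, 1, 1, 1, 0, 1, 0], 7),
   ([0, 0, 1, 0, 1, 0, 1, 0], 8),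
   ([1, 0, 1, 0, 1, 1, 1, 0], 8),
   ([1, 0, 1, 1, 1, 1, 1, 1], 8),
   ([1, 1, 0, 1, 1, 1, 0, 1], 8)]

/-- A part of a table. -/
def orb1_p3 : Cert.Orbit :=
  [([1, 1, 0, 1, 0, 1, 0, 1], 8),
   ([1, 0, 0, 0, 0, 1, 0, 0], 8),
   ([1, 0, 0, 0, 1, 0, 1, 1], 8),
   ([1, 0, 0, 1, 0, 1, 0, 1], 8),
   ([1, 0, 0, 1, 1, 1, 0, 1], 8),
   ([1, 1, 1, 0, 1, 0, 0, 1], 8),
   ([1, 1, 1, 1, 1, 1, 1, 1], 8),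
   ([0, 0, 0, 1, 0, 0, 0, 1], 8),
   ([0, 1, 1, 1, 1, 0, 1, 1], 8),
   ([0, 1, 1, 0, 1, 0, 1, 0], 8),
   ([1, 1, 0, 1, 1, 0, 0, 1], 8),
   ([1, 1, 0, 0, 1, 1, 1, 1], 8),
   ([1, 0, 0, 1, 0, 0, 0, 1], 8),
   ([1, 1, 1, 1, 1, 0, 1, 1], 8),
   ([1, 1, 1, 0, 1, 0, 1, 0], 8),
   ([0, 1, 1, 0, 1, 1, 1, 0], 8)]

/-- A part of a table. -/
def orb1_p4 : Cert.Orbit :=
  [([0, 0, 1, 1, 1, 1, 1, 0], 9),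
   ([0, 0, 1, 0, 1, 1, 1, 1], 9),
   ([1, 0, 1, 0, 0, 1, 0, 0], 9),
   ([1, 0, 1, 0, 1, 0, 1, 1], 9),
   ([1, 0, 1, 1, 0, 1, 0, 1], 9),
   ([1, 0, 1, 1, 1, 1, 0, 1], 9),
   ([1, 1, 0, 0, 1, 0, 0, 1], 9),
   ([1, 1, 0, 1, 1, 1, 1, 1], 9),
   ([1, 0, 0, 0, 1, 0, 0, 1], 9),
   ([1, 0, 0, 1, 0, 1, 1, 1], 9),
   ([1, 1, 1, 0, 1, 0, 1, 1], 9),
   ([1, 1, 1, 1, 1, 0, 1, 0], 9),
   ([0, 0, 0, 1, 0, 0, 1, 1], 9),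
   ([0, 1, 1, 1, 1, 1, 1, 0], 9),
   ([1, 0, 1, 1, 0, 0, 0, 1], 9),
   ([1, 1, 0, 1, 1, 0, 1, 1], 9)]

/-- A part of a table. -/
def orb1_p5 : Cert.Orbit :=
  [([1, 1, 0, 0, 1, 0, 1, 0], 9),
   ([1, 0, 0, 1, 0, 0, 1, 1], 9),
   ([1, 1, 1, 1, 1, 1, 1, 0], 9),
   ([0, 1, 1, 0, 0, 1, 0, 0], 9),
   ([0, 1, 0, 1, 0, 1, 1, 0], 10),
   ([0, 0, 1, 1, 0, 1, 0, 0], 10),
   ([0, 0, 1, 1, 1, 0, 1, 1], 10),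
   ([0, 0, 1, 0, 0, 1, 0, 1], 10),
   ([0, 0, 1, 0, 1, 1, 0, 1], 10),
   ([1, 0, 1, 0, 1, 0, 0, 1], 10),
   ([1, 0, 1, 1, 0, 1, 1, 1], 10),
   ([1, 1, 0, 0, 1, 0, 1, 1], 10),
   ([1, 1, 0, 1, 1, 0, 1, 0], 10),
   ([1, 0, 0, 1, 0, 0, 1, 0], 10),
   ([1, 1, 1, 0, 1, 1, 1, 0], 10),
   ([0, 0, 0, 1, 0, 1, 1, 0], 10)]

/-- A part of a table. -/
def orb1_p6 : Cert.Orbit :=
  [([0, 1, 1, 1, 0, 1, 0, 0], 10),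
   ([0, 0, 1, 0, 0, 0, 0, 1], 10),
   ([1, 0, 1, 1, 0, 0, 1, 1], 10),
   ([1, 1, 0, 1, 1, 1, 1, 0], 10),
   ([1, 0, 0, 1, 0, 1, 1, 0], 10),
   ([1, 1, 1, 1, 0, 1, 0, 0], 10),
   ([0, 1, 0, 0, 0, 1, 1, 0], 11),
   ([0, 1, 0, 1, 1, 1, 0, 0], 11),
   ([0, 1, 0, 1, 0, 0, 1, 1], 11),
   ([0, 0, 1, 1, 1, 0, 0, 1], 11),
   ([0, 0, 1, 0, 0, 1, 1, 1], 11),
   ([1, 0, 1, 1, 0, 0, 1, 0], 11),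
   ([1, 1, 0, 0, 1, 1, 1, 0], 11),
   ([1, 1, 1, 0, 0, 1, 0, 0], 11),
   ([0, 0, 0, 1, 1, 1, 0, 0], 11),
   ([0, 0, 1, 0, 0, 0, 1, 1], 11)]

/-- A part of a table. -/
def orb1_p7 : Cert.Orbit :=
  [([1, 0, 1, 1, 0, 1, 1, 0], 11),
   ([1, 1, 0, 1, 0, 1, 0, 0], 11),
   ([1, 0, 0, 1, 1, 1, 0, 0], 11),
   ([0, 1, 0, 0, 1, 1, 0, 0], 12),
   ([0, 1, 0, 0, 0, 0, 1, 1], 12),
   ([0, 1, 0, 0, 1, 0, 0, 0], 12),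
   ([0, 1, 0, 1, 0, 0, 0, 1], 12),
   ([0, 0, 1, 0, 0, 0, 1, 0], 12),
   ([1, 1, 0, 0, 0, 1, 0, 0], 12),
   ([0, 0, 0, 0, 1, 0, 0, 0], 12),
   ([0, 0, 1, 0, 0, 1, 1, 0], 12),
   ([1, 0, 1, 1, 1, 1, 0, 0], 12),
   ([1, 0, 0, 0, 1, 0, 0, 0], 12),
   ([0, 1, 0, 1, 1, 0, 0, 0], 13),
   ([0, 1, 0, 0, 0, 0, 0, 1], 13),
   ([0, 0, 1, 0, 1, 1, 0, 0], 13)]

/-- A part of a table. -/
def orb1_p8 : Cert.Orbit :=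
  [([1, 0, 1, 0, 1, 0, 0, 0], 13),
   ([0, 0, 1, 1, 0, 0, 0, 0], 14),
   ([0, 0, 1, 1, 1, 0, 0, 0], 14),
   ([1, 0, 1, 0, 0, 0, 0, 0], 15),
   ([0, 1, 0, 1, 0, 0, 0, 0], 15),
   ([1, 0, 0, 0, 0, 0, 0, 0], 16),
   ([0, 1, 0, 0, 0, 0, 0, 0], 16)]

/-- The orbit of the levels. -/
def orb1 : Cert.Orbit :=
  orb1_p0 ++ orb1_p1 ++ orb1_p2 ++ orb1_p3 ++ orb1_p4 ++ orb1_p5 ++ orb1_p6 ++ orb1_p7 ++ orb1_p8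

/-- A part of a table. -/
def orbS1_0_p0 : Cert.Orbit :=
  [([0, 1, 0, 0, 0, 0, 0, 0], 0),
   ([1, -1, 0, 0, 0, 0, 0, 0], 1),
   ([-1, 0, 0, 0, 0, 0, 1, 0], 2),
   ([0, 0, 0, 0, 0, 0, -1, 1], 3),
   ([0, 0, 0, 0, 1, 0, 0, -1], 4),
   ([0, 0, 0, 1, -1, 0, 0, 0], 5),
   ([0, 0, 1, -1, 0, 1, 0, 0], 6),
   ([0, 0, -1, 0, 0, 1, 0, 0], 7),
   ([0, 0, 1, 0, 0, -1, 0, 0], 7),
   ([0, 0, -1, 1, 0, -1, 0, 0], 8),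
   ([0, 0, 0, -1, 1, 0, 0, 0], 9),
   ([0, 0, 0, 0, -1, 0, 0, 1], 10),
   ([0, 0, 0, 0, 0, 0, 1, -1], 11),
   ([1, 0, 0, 0, 0, 0, -1, 0], 12),
   ([-1, 1, 0, 0, 0, 0, 0, 0], 13),
   ([0, -1, 0, 0, 0, 0, 0, 0], 14)]

/-- An orbit of a coweight. -/
def orbS1_0 : Cert.Orbit :=
  orbS1_0_p0

/-- A part of a table. -/
def orbS1_1_p0 : Cert.Orbit :=
  [([1, 0, 0, 0, 0, 0, 0, 0], 0),
   ([-1, 1, 0, 0, 0, 0, 1, 0], 1),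
   ([0, 1, 0, 0, 0, 0, -1, 1], 2),
   ([0, 1, 0, 0, 1, 0, 0, -1], 3),
   ([0, 1, 0, 1, -1, 0, 0, 0], 4),
   ([0, 1, 1, -1, 0, 1, 0, 0], 5),
   ([0, 1, -1, 0, 0, 1, 0, 0], 6),
   ([0, 1, 1, 0, 0, -1, 0, 0], 6),
   ([0, 1, -1, 1, 0, -1, 0, 0], 7),
   ([0, 1, 0, -1, 1, 0, 0, 0], 8),
   ([0, 1, 0, 0, -1, 0, 0, 1], 9),
   ([0, 1, 0, 0, 0, 0, 1, -1], 10),
   ([1, 1, 0, 0, 0, 0, -1, 0], 11),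
   ([-1, 2, 0, 0, 0, 0, 0, 0], 12)]

/-- An orbit of a coweight. -/
def orbS1_1 : Cert.Orbit :=
  orbS1_1_p0

/-- A part of a table. -/
def orbS1_2_p0 : Cert.Orbit :=
  [([0, 0, 0, 0, 0, 0, 1, 0], 0),
   ([1, 0, 0, 0, 0, 0, -1, 1], 1),
   ([1, 0, 0, 0, 1, 0, 0, -1], 2),
   ([1, 0, 0, 1, -1, 0, 0, 0], 3),
   ([1, 0, 1, -1, 0, 1, 0, 0], 4),
   ([1, 0, -1, 0, 0, 1, 0, 0], 5),
   ([1, 0, 1, 0, 0, -1, 0, 0], 5),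
   ([1, 0, -1, 1, 0, -1, 0, 0], 6),
   ([1, 0, 0, -1, 1, 0, 0, 0], 7),
   ([1, 0, 0, 0, -1, 0, 0, 1], 8),
   ([1, 0, 0, 0, 0, 0, 1, -1], 9),
   ([2, 0, 0, 0, 0, 0, -1, 0], 10)]

/-- An orbit of a coweight. -/
def orbS1_2 : Cert.Orbit :=
  orbS1_2_p0

/-- A part of a table. -/
def orbS1_3_p0 : Cert.Orbit :=
  [([0, 0, 0, 0, 0, 0, 0, 1], 0),
   ([0, 0, 0, 0, 1, 0, 1, -1], 1),
   ([0, 0, 0, 1, -1, 0, 1, 0], 2),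
   ([0, 0, 1, -1, 0, 1, 1, 0], 3),
   ([0, 0, -1, 0, 0, 1, 1, 0], 4),
   ([0, 0, 1, 0, 0, -1, 1, 0], 4),
   ([0, 0, -1, 1, 0, -1, 1, 0], 5),
   ([0, 0, 0, -1, 1, 0, 1, 0], 6),
   ([0, 0, 0, 0, -1, 0, 1, 1], 7),
   ([0, 0, 0, 0, 0, 0, 2, -1], 8)]

/-- An orbit of a coweight. -/
def orbS1_3 : Cert.Orbit :=
  orbS1_3_p0

/-- A part of a table. -/
def orbS1_4_p0 : Cert.Orbit :=
  [([0, 0, 1, 0, 0, 0, 0, 0], 0),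
   ([0, 0, -1, 1, 0, 0, 0, 0], 1),
   ([0, 0, 0, -1, 1, 1, 0, 0], 2),
   ([0, 0, 0, 0, -1, 1, 0, 1], 3),
   ([0, 0, 0, 0, 1, -1, 0, 0], 3),
   ([0, 0, 0, 1, -1, -1, 0, 1], 4),
   ([0, 0, 1, -1, 0, 0, 0, 1], 5),
   ([0, 0, -1, 0, 0, 0, 0, 1], 6)]

/-- An orbit of a coweight. -/
def orbS1_4 : Cert.Orbit :=
  orbS1_4_p0

/-- A part of a table. -/
def orbS1_5_p0 : Cert.Orbit :=
  [([0, 0, 0, 0, 1, 0, 0, 0], 0),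
   ([0, 0, 0, 1, -1, 0, 0, 1], 1),
   ([0, 0, 1, -1, 0, 1, 0, 1], 2),
   ([0, 0, 1, 0, 0, -1, 0, 1], 3)]

/-- An orbit of a coweight. -/
def orbS1_5 : Cert.Orbit :=
  orbS1_5_p0

/-- A part of a table. -/
def orbS1_6_p0 : Cert.Orbit :=
  [([0, 0, 0, 1, 0, 0, 0, 0], 0),
   ([0, 0, 1, -1, 1, 1, 0, 0], 1),
   ([0, 0, 1, 0, 1, -1, 0, 0], 2)]

/-- An orbit of a coweight. -/
def orbS1_6 : Cert.Orbit :=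
  orbS1_6_p0

/-- A part of a table. -/
def orbS1_7_p0 : Cert.Orbit :=
  [([0, 0, 0, 0, 0, 1, 0, 0], 0),
   ([0, 0, 0, 1, 0, -1, 0, 0], 1)]

/-- An orbit of a coweight. -/
def orbS1_7 : Cert.Orbit :=
  orbS1_7_p0

/-- The certificate of class 1. -/
def cert1 : ClassCert tab 8 where
  B := base1
  ok :=
    { d_ne := by decide +kernel
      hβV := show ∀ m : Fin 8, _ by decide +kernel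
      hβC := show ∀ (m : Fin 8) (k : Fin 8), (Cfsg.Lie.chevE8.coroot.getD (base1.βi m).val #[]).getD k.val 0 =
        Cert.get (base1.βC m) k by decide +kernel
      hβ := show ∀ m : Fin 8, _ by decide +kernel
      hdual := show ∀ m n : Fin 8, ∑ j : Fin 8, Cert.get (base1.βV m) j * Cert.get (base1.Q n) j =
        if m = n then base1.d else 0 by decide +kernel
      hrows := by decide +kernel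
      hN := by decide +kernel }
  orb := orb1
  v := [0, 0, 0, 0, 0, 1, 0, 0]
  hv := show ∀ j : Fin 8, Cert.get [0, 0, 0, 0, 0, 1, 0, 0] j = [0, 0, 0, 0, 0, 1, 0, 0].getD j.val 0 ∧ ([0, 0, 0, 0, 0, 1, 0, 0] : List ℤ).getD j.val 0 % 2 = ([0, 0, 0, 0, 0, 1, 0, 0] : List ℤ).getD j.val 0 by
    decide +kernel
  hvlen := rfl
  horb := by decide +kernel
  horb0 := by decide +kernel
  chain := [(1, orbS1_0), (0, orbS1_1), (6, orbS1_2), (7, orbS1_3), (2, orbS1_4), (4, orbS1_5), (3, orbS1_6), (5, orbS1_7)]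
  degs := [2, 4, 6, 8, 8, 10, 12, 14]
  hchain := by decide +kernel
  hdeg := by decide +kernel
  hdegs := rfl
  hdpos := by decide +kernel
  hne := show ∃ j : Fin 8, ([0, 0, 0, 0, 0, 1, 0, 0] : List ℤ).getD j.val 0 = 1 by decide +kernel

/-- The data of class 2. -/
def base2 : BaseTab Cfsg.Lie.chevE8 8 where
  e := fun i : Fin 8 => [0, 0, 0, 0, 0, 0, 0, 1].getD i.val 0
  βi := fun m : Fin 8 => ([121, 123, 126, 130, 135, 141, 162, 239] : List (Fin 240)).getD m.val 0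
  βV := fun m : Fin 8 => [[0, 0, 0, 0, 0, 0, 1, 0],
    [0, 0, 0, 0, 0, 1, 0, 0],
    [0, 0, 0, 0, 1, 0, 0, 0],
    [0, 0, 0, 1, 0, 0, 0, 0],
    [0, 0, 1, 0, 0, 0, 0, 0],
    [0, 1, 0, 0, 0, 0, 0, 0],
    [1, 0, 0, 0, 0, 0, 0, 0],
    [2, 3, 4, 6, 5, 4, 3, 2]].getD m.val []
  βC := fun m : Fin 8 => [[0, 0, 0, 0, 0, 0, 1, 0],
    [0, 0, 0, 0, 0, 1, 0, 0],
    [0, 0, 0, 0, 1, 0, 0, 0],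
    [0, 0, 0, 1, 0, 0, 0, 0],
    [0, 0, 1, 0, 0, 0, 0, 0],
    [0, 1, 0, 0, 0, 0, 0, 0],
    [1, 0, 0, 0, 0, 0, 0, 0],
    [2, 3, 4, 6, 5, 4, 3, 2]].getD m.val []
  Q := fun m : Fin 8 => [[0, 0, 0, 0, 0, 0, 2, -3],
    [0, 0, 0, 0, 0, 2, 0, -4],
    [0, 0, 0, 0, 2, 0, 0, -5],
    [0, 0, 0, 2, 0, 0, 0, -6],
    [0, 0, 2, 0, 0, 0, 0, -4],
    [0, 2, 0, 0, 0, 0, 0, -3],
    [2, 0, 0, 0, 0, 0, 0, -2],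
    [0, 0, 0, 0, 0, 0, 0, 1]].getD m.val []
  d := 2
  N := 64

/-- A part of a table. -/
def orb2_p0 : Cert.Orbit :=
  [([0, 0, 0, 0, 0, 0, 0, 1], 0),
   ([0, 0, 0, 0, 0, 0, 1, 1], 1),
   ([0, 0, 0, 0, 0, 1, 1, 0], 2),
   ([0, 0, 0, 0, 1, 1, 0, 0], 3),
   ([0, 0, 0, 1, 1, 0, 0, 0], 4),
   ([0, 1, 1, 1, 0, 0, 0, 0], 5),
   ([0, 1, 1, 0, 0, 0, 0, 0], 6),
   ([1, 1, 1, 0, 0, 0, 0, 0], 6),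
   ([1, 1, 1, 1, 0, 0, 0, 0], 7),
   ([1, 1, 0, 0, 0, 0, 0, 0], 7),
   ([1, 1, 0, 1, 0, 0, 0, 0], 8),
   ([1, 0, 0, 1, 1, 0, 0, 0], 8),
   ([1, 0, 1, 1, 1, 0, 0, 0], 9),
   ([1, 0, 0, 0, 1, 1, 0, 0], 9),
   ([0, 0, 1, 0, 1, 0, 0, 0], 10),
   ([1, 0, 1, 0, 1, 1, 0, 0], 10)]

/-- A part of a table. -/
def orb2_p1 : Cert.Orbit :=
  [([1, 0, 0, 0, 0, 1, 1, 0], 10),
   ([0, 0, 1, 1, 1, 1, 0, 0], 11),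
   ([1, 0, 1, 0, 0, 1, 1, 0], 11),
   ([1, 0, 0, 0, 0, 0, 1, 1], 11),
   ([0, 1, 0, 1, 0, 1, 0, 0], 12),
   ([0, 0, 1, 1, 0, 1, 1, 0], 12),
   ([1, 0, 1, 0, 0, 0, 1, 1], 12),
   ([1, 0, 0, 0, 0, 0, 0, 1], 12),
   ([0, 1, 0, 0, 0, 1, 0, 0], 13),
   ([0, 1, 0, 1, 1, 1, 1, 0], 13),
   ([0, 0, 1, 1, 0, 0, 1, 1], 13),
   ([1, 0, 1, 0, 0, 0, 0, 1], 13),
   ([0, 1, 0, 0, 1, 1, 1, 0], 14),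
   ([0, 1, 0, 0, 1, 0, 1, 0], 14),
   ([0, 1, 0, 1, 1, 0, 1, 1], 14),
   ([0, 0, 1, 1, 0, 0, 0, 1], 14)]

/-- A part of a table. -/
def orb2_p2 : Cert.Orbit :=
  [([0, 1, 0, 1, 1, 0, 1, 0], 15),
   ([0, 1, 0, 0, 1, 0, 1, 1], 15),
   ([0, 1, 0, 0, 1, 1, 1, 1], 15),
   ([0, 1, 0, 1, 1, 0, 0, 1], 15),
   ([0, 0, 1, 1, 0, 0, 1, 0], 16),
   ([0, 1, 0, 1, 1, 1, 1, 1], 16),
   ([0, 1, 0, 0, 1, 0, 0, 1], 16),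
   ([0, 1, 0, 0, 0, 1, 0, 1], 16),
   ([0, 1, 0, 0, 1, 1, 0, 1], 16),
   ([1, 0, 1, 0, 0, 0, 1, 0], 17),
   ([0, 0, 1, 1, 0, 1, 1, 1], 17),
   ([0, 1, 0, 1, 0, 1, 0, 1], 17),
   ([0, 1, 0, 1, 1, 1, 0, 1], 17),
   ([0, 1, 0, 0, 0, 1, 1, 1], 17),
   ([1, 0, 0, 0, 0, 0, 1, 0], 18),
   ([1, 0, 1, 0, 0, 1, 1, 1], 18)]

/-- A part of a table. -/
def orb2_p3 : Cert.Orbit :=
  [([0, 0, 1, 1, 1, 1, 0, 1], 18),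
   ([0, 0, 1, 1, 0, 1, 0, 1], 18),
   ([0, 1, 0, 1, 0, 1, 1, 1], 18),
   ([0, 1, 0, 0, 0, 0, 1, 0], 18),
   ([1, 0, 0, 0, 0, 1, 1, 1], 19),
   ([1, 0, 1, 0, 1, 1, 0, 1], 19),
   ([1, 0, 1, 0, 0, 1, 0, 1], 19),
   ([0, 0, 1, 0, 1, 0, 0, 1], 19),
   ([0, 0, 1, 1, 1, 1, 1, 1], 19),
   ([0, 1, 0, 1, 0, 0, 1, 0], 19),
   ([1, 0, 0, 0, 1, 1, 0, 1], 20),
   ([1, 0, 0, 0, 0, 1, 0, 1], 20),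
   ([1, 0, 1, 1, 1, 0, 0, 1], 20),
   ([1, 0, 1, 0, 1, 1, 1, 1], 20),
   ([0, 0, 1, 0, 1, 0, 1, 1], 20),
   ([0, 0, 1, 1, 1, 0, 1, 0], 20)]

/-- A part of a table. -/
def orb2_p4 : Cert.Orbit :=
  [([1, 0, 0, 1, 1, 0, 0, 1], 21),
   ([1, 0, 0, 0, 1, 1, 1, 1], 21),
   ([1, 1, 0, 1, 0, 0, 0, 1], 21),
   ([1, 0, 1, 1, 1, 0, 1, 1], 21),
   ([1, 0, 1, 0, 1, 0, 1, 0], 21),
   ([0, 0, 1, 0, 1, 1, 1, 0], 21),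
   ([1, 1, 1, 1, 0, 0, 0, 1], 22),
   ([1, 0, 0, 1, 1, 0, 1, 1], 22),
   ([1, 0, 0, 0, 1, 0, 1, 0], 22),
   ([1, 1, 0, 0, 0, 0, 0, 1], 22),
   ([1, 1, 0, 1, 0, 0, 1, 1], 22),
   ([1, 0, 1, 1, 1, 1, 1, 0], 22),
   ([0, 0, 1, 0, 0, 1, 0, 0], 22),
   ([1, 1, 1, 0, 0, 0, 0, 1], 23),
   ([0, 1, 1, 0, 0, 0, 0, 1], 23),
   ([1, 1, 1, 1, 0, 0, 1, 1], 23)]

/-- A part of a table. -/
def orb2_p5 : Cert.Orbit :=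
  [([1, 0, 0, 1, 1, 1, 1, 0], 23),
   ([1, 1, 0, 0, 0, 0, 1, 1], 23),
   ([1, 1, 0, 1, 0, 1, 1, 0], 23),
   ([1, 0, 1, 1, 0, 1, 0, 0], 23),
   ([0, 1, 1, 1, 0, 0, 0, 1], 24),
   ([1, 1, 1, 0, 0, 0, 1, 1], 24),
   ([0, 1, 1, 0, 0, 0, 1, 1], 24),
   ([1, 1, 1, 1, 0, 1, 1, 0], 24),
   ([1, 0, 0, 1, 0, 1, 0, 0], 24),
   ([1, 1, 0, 0, 0, 1, 1, 0], 24),
   ([1, 1, 0, 1, 1, 1, 0, 0], 24),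
   ([0, 0, 0, 1, 1, 0, 0, 1], 25),
   ([0, 1, 1, 1, 0, 0, 1, 1], 25),
   ([1, 1, 1, 0, 0, 1, 1, 0], 25),
   ([0, 1, 1, 0, 0, 1, 1, 0], 25),
   ([1, 1, 1, 1, 1, 1, 0, 0], 25)]

/-- A part of a table. -/
def orb2_p6 : Cert.Orbit :=
  [([1, 1, 0, 0, 1, 1, 0, 0], 25),
   ([1, 1, 0, 0, 1, 0, 0, 0], 25),
   ([0, 0, 0, 0, 1, 1, 0, 1], 26),
   ([0, 0, 0, 1, 1, 0, 1, 1], 26),
   ([0, 1, 1, 1, 0, 1, 1, 0], 26),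
   ([1, 1, 1, 0, 1, 1, 0, 0], 26),
   ([0, 1, 1, 0, 1, 1, 0, 0], 26),
   ([1, 1, 1, 0, 1, 0, 0, 0], 26),
   ([1, 1, 0, 1, 1, 0, 0, 0], 26),
   ([0, 0, 0, 0, 0, 1, 1, 1], 27),
   ([0, 0, 0, 0, 1, 1, 1, 1], 27),
   ([0, 0, 0, 1, 1, 1, 1, 0], 27),
   ([0, 1, 1, 1, 1, 1, 0, 0], 27),
   ([1, 1, 1, 1, 1, 0, 0, 0], 27),
   ([0, 1, 1, 1, 1, 0, 0, 0], 27),
   ([1, 0, 1, 1, 0, 0, 0, 0], 27)]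

/-- A part of a table. -/
def orb2_p7 : Cert.Orbit :=
  [([0, 0, 0, 0, 0, 0, 1, 0], 28),
   ([0, 0, 0, 0, 0, 1, 0, 1], 28),
   ([0, 0, 0, 0, 1, 0, 1, 0], 28),
   ([0, 0, 0, 1, 0, 1, 0, 0], 28),
   ([0, 1, 1, 0, 1, 0, 0, 0], 28),
   ([1, 0, 0, 1, 0, 0, 0, 0], 28),
   ([0, 0, 0, 1, 0, 0, 0, 0], 28),
   ([0, 0, 1, 0, 0, 0, 0, 0], 28)]

/-- The orbit of the levels. -/
def orb2 : Cert.Orbit :=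
  orb2_p0 ++ orb2_p1 ++ orb2_p2 ++ orb2_p3 ++ orb2_p4 ++ orb2_p5 ++ orb2_p6 ++ orb2_p7

/-- A part of a table. -/
def orbS2_0_p0 : Cert.Orbit :=
  [([0, 0, 0, 0, 0, 0, 0, 1], 0),
   ([0, 0, 0, 0, 0, 0, 0, -1], 1)]

/-- An orbit of a coweight. -/
def orbS2_0 : Cert.Orbit :=
  orbS2_0_p0

/-- A part of a table. -/
def orbS2_1_p0 : Cert.Orbit :=
  [([1, 0, 0, 0, 0, 0, 0, 0], 0),
   ([-1, 1, 0, 0, 0, 0, 0, 0], 1),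
   ([0, -1, 1, 0, 0, 0, 0, 0], 2),
   ([0, 0, -1, 1, 0, 0, 0, 0], 3),
   ([0, 0, 0, -1, 1, 1, 0, 0], 4),
   ([0, 0, 0, 0, -1, 1, 1, 0], 5),
   ([0, 0, 0, 0, 1, -1, 0, 0], 5),
   ([0, 0, 0, 1, -1, -1, 1, 0], 6),
   ([0, 0, 0, 0, 0, 1, -1, 0], 6),
   ([0, 0, 1, -1, 0, 0, 1, 0], 7),
   ([0, 0, 0, 1, 0, -1, -1, 0], 7),
   ([0, 1, -1, 0, 0, 0, 1, 0], 8),
   ([0, 0, 1, -1, 1, 0, -1, 0], 8),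
   ([1, -1, 0, 0, 0, 0, 1, 0], 9),
   ([0, 1, -1, 0, 1, 0, -1, 0], 9),
   ([0, 0, 1, 0, -1, 0, 0, 0], 9)]

/-- A part of a table. -/
def orbS2_1_p1 : Cert.Orbit :=
  [([-1, 0, 0, 0, 0, 0, 1, 0], 10),
   ([1, -1, 0, 0, 1, 0, -1, 0], 10),
   ([0, 1, -1, 1, -1, 0, 0, 0], 10),
   ([-1, 0, 0, 0, 1, 0, -1, 0], 11),
   ([1, -1, 0, 1, -1, 0, 0, 0], 11),
   ([0, 1, 0, -1, 0, 1, 0, 0], 11),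
   ([-1, 0, 0, 1, -1, 0, 0, 0], 12),
   ([1, -1, 1, -1, 0, 1, 0, 0], 12),
   ([0, 1, 0, 0, 0, -1, 0, 0], 12),
   ([-1, 0, 1, -1, 0, 1, 0, 0], 13),
   ([1, 0, -1, 0, 0, 1, 0, 0], 13),
   ([1, -1, 1, 0, 0, -1, 0, 0], 13),
   ([-1, 1, -1, 0, 0, 1, 0, 0], 14),
   ([-1, 0, 1, 0, 0, -1, 0, 0], 14),
   ([1, 0, -1, 1, 0, -1, 0, 0], 14),
   ([0, -1, 0, 0, 0, 1, 0, 0], 15)]

/-- A part of a table. -/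
def orbS2_1_p2 : Cert.Orbit :=
  [([-1, 1, -1, 1, 0, -1, 0, 0], 15),
   ([1, 0, 0, -1, 1, 0, 0, 0], 15),
   ([0, -1, 0, 1, 0, -1, 0, 0], 16),
   ([-1, 1, 0, -1, 1, 0, 0, 0], 16),
   ([1, 0, 0, 0, -1, 0, 1, 0], 16),
   ([0, -1, 1, -1, 1, 0, 0, 0], 17),
   ([-1, 1, 0, 0, -1, 0, 1, 0], 17),
   ([1, 0, 0, 0, 0, 0, -1, 0], 17),
   ([0, 0, -1, 0, 1, 0, 0, 0], 18),
   ([0, -1, 1, 0, -1, 0, 1, 0], 18),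
   ([-1, 1, 0, 0, 0, 0, -1, 0], 18),
   ([0, 0, -1, 1, -1, 0, 1, 0], 19),
   ([0, -1, 1, 0, 0, 0, -1, 0], 19),
   ([0, 0, 0, -1, 0, 1, 1, 0], 20),
   ([0, 0, -1, 1, 0, 0, -1, 0], 20),
   ([0, 0, 0, 0, 0, -1, 1, 0], 21)]

/-- A part of a table. -/
def orbS2_1_p3 : Cert.Orbit :=
  [([0, 0, 0, -1, 1, 1, -1, 0], 21),
   ([0, 0, 0, 0, 1, -1, -1, 0], 22),
   ([0, 0, 0, 0, -1, 1, 0, 0], 22),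
   ([0, 0, 0, 1, -1, -1, 0, 0], 23),
   ([0, 0, 1, -1, 0, 0, 0, 0], 24),
   ([0, 1, -1, 0, 0, 0, 0, 0], 25),
   ([1, -1, 0, 0, 0, 0, 0, 0], 26),
   ([-1, 0, 0, 0, 0, 0, 0, 0], 27)]

/-- An orbit of a coweight. -/
def orbS2_1 : Cert.Orbit :=
  orbS2_1_p0 ++ orbS2_1_p1 ++ orbS2_1_p2 ++ orbS2_1_p3

/-- A part of a table. -/
def orbS2_2_p0 : Cert.Orbit :=
  [([0, 1, 0, 0, 0, 0, 0, 0], 0),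
   ([1, -1, 1, 0, 0, 0, 0, 0], 1),
   ([1, 0, -1, 1, 0, 0, 0, 0], 2),
   ([1, 0, 0, -1, 1, 1, 0, 0], 3),
   ([1, 0, 0, 0, -1, 1, 1, 0], 4),
   ([1, 0, 0, 0, 1, -1, 0, 0], 4),
   ([1, 0, 0, 1, -1, -1, 1, 0], 5),
   ([1, 0, 0, 0, 0, 1, -1, 0], 5),
   ([1, 0, 1, -1, 0, 0, 1, 0], 6),
   ([1, 0, 0, 1, 0, -1, -1, 0], 6),
   ([1, 1, -1, 0, 0, 0, 1, 0], 7),
   ([1, 0, 1, -1, 1, 0, -1, 0], 7),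
   ([2, -1, 0, 0, 0, 0, 1, 0], 8),
   ([1, 1, -1, 0, 1, 0, -1, 0], 8),
   ([1, 0, 1, 0, -1, 0, 0, 0], 8),
   ([2, -1, 0, 0, 1, 0, -1, 0], 9)]

/-- A part of a table. -/
def orbS2_2_p1 : Cert.Orbit :=
  [([1, 1, -1, 1, -1, 0, 0, 0], 9),
   ([2, -1, 0, 1, -1, 0, 0, 0], 10),
   ([1, 1, 0, -1, 0, 1, 0, 0], 10),
   ([2, -1, 1, -1, 0, 1, 0, 0], 11),
   ([1, 1, 0, 0, 0, -1, 0, 0], 11),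
   ([2, 0, -1, 0, 0, 1, 0, 0], 12),
   ([2, -1, 1, 0, 0, -1, 0, 0], 12),
   ([2, 0, -1, 1, 0, -1, 0, 0], 13),
   ([2, 0, 0, -1, 1, 0, 0, 0], 14),
   ([2, 0, 0, 0, -1, 0, 1, 0], 15),
   ([2, 0, 0, 0, 0, 0, -1, 0], 16)]

/-- An orbit of a coweight. -/
def orbS2_2 : Cert.Orbit :=
  orbS2_2_p0 ++ orbS2_2_p1

/-- A part of a table. -/
def orbS2_3_p0 : Cert.Orbit :=
  [([0, 0, 0, 0, 0, 0, 1, 0], 0),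
   ([0, 0, 0, 0, 1, 0, -1, 0], 1),
   ([0, 0, 0, 1, -1, 0, 0, 0], 2),
   ([0, 0, 1, -1, 0, 1, 0, 0], 3),
   ([0, 1, -1, 0, 0, 1, 0, 0], 4),
   ([0, 0, 1, 0, 0, -1, 0, 0], 4),
   ([0, 1, -1, 1, 0, -1, 0, 0], 5),
   ([0, 1, 0, -1, 1, 0, 0, 0], 6),
   ([0, 1, 0, 0, -1, 0, 1, 0], 7),
   ([0, 1, 0, 0, 0, 0, -1, 0], 8)]

/-- An orbit of a coweight. -/
def orbS2_3 : Cert.Orbit :=
  orbS2_3_p0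

/-- A part of a table. -/
def orbS2_4_p0 : Cert.Orbit :=
  [([0, 0, 1, 0, 0, 0, 0, 0], 0),
   ([0, 1, -1, 1, 0, 0, 0, 0], 1),
   ([0, 1, 0, -1, 1, 1, 0, 0], 2),
   ([0, 1, 0, 0, -1, 1, 1, 0], 3),
   ([0, 1, 0, 0, 1, -1, 0, 0], 3),
   ([0, 1, 0, 1, -1, -1, 1, 0], 4),
   ([0, 1, 1, -1, 0, 0, 1, 0], 5),
   ([0, 2, -1, 0, 0, 0, 1, 0], 6)]

/-- An orbit of a coweight. -/
def orbS2_4 : Cert.Orbit :=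
  orbS2_4_p0

/-- A part of a table. -/
def orbS2_5_p0 : Cert.Orbit :=
  [([0, 0, 0, 0, 1, 0, 0, 0], 0),
   ([0, 0, 0, 1, -1, 0, 1, 0], 1),
   ([0, 0, 1, -1, 0, 1, 1, 0], 2),
   ([0, 0, 1, 0, 0, -1, 1, 0], 3)]

/-- An orbit of a coweight. -/
def orbS2_5 : Cert.Orbit :=
  orbS2_5_p0

/-- A part of a table. -/
def orbS2_6_p0 : Cert.Orbit :=
  [([0, 0, 0, 1, 0, 0, 0, 0], 0),
   ([0, 0, 1, -1, 1, 1, 0, 0], 1),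
   ([0, 0, 1, 0, 1, -1, 0, 0], 2)]

/-- An orbit of a coweight. -/
def orbS2_6 : Cert.Orbit :=
  orbS2_6_p0

/-- A part of a table. -/
def orbS2_7_p0 : Cert.Orbit :=
  [([0, 0, 0, 0, 0, 1, 0, 0], 0),
   ([0, 0, 0, 1, 0, -1, 0, 0], 1)]

/-- An orbit of a coweight. -/
def orbS2_7 : Cert.Orbit :=
  orbS2_7_p0

/-- The certificate of class 2. -/
def cert2 : ClassCert tab 8 where
  B := base2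
  ok :=
    { d_ne := by decide +kernel
      hβV := show ∀ m : Fin 8, _ by decide +kernel
      hβC := show ∀ (m : Fin 8) (k : Fin 8), (Cfsg.Lie.chevE8.coroot.getD (base2.βi m).val #[]).getD k.val 0 =
        Cert.get (base2.βC m) k by decide +kernel
      hβ := show ∀ m : Fin 8, _ by decide +kernel
      hdual := show ∀ m n : Fin 8, ∑ j : Fin 8, Cert.get (base2.βV m) j * Cert.get (base2.Q n) j =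
        if m = n then base2.d else 0 by decide +kernel
      hrows := by decide +kernel
      hN := by decide +kernel }
  orb := orb2
  v := [0, 0, 0, 0, 0, 0, 0, 1]
  hv := show ∀ j : Fin 8, Cert.get [0, 0, 0, 0, 0, 0, 0, 1] j = [0, 0, 0, 0, 0, 0, 0, 1].getD j.val 0 ∧ ([0, 0, 0, 0, 0, 0, 0, 1] : List ℤ).getD j.val 0 % 2 = ([0, 0, 0, 0, 0, 0, 0, 1] : List ℤ).getD j.val 0 by
    decide +kernel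
  hvlen := rfl
  horb := by decide +kernel
  horb0 := by decide +kernel
  chain := [(7, orbS2_0), (0, orbS2_1), (1, orbS2_2), (6, orbS2_3), (2, orbS2_4), (4, orbS2_5), (3, orbS2_6), (5, orbS2_7)]
  degs := [2, 2, 6, 8, 10, 12, 14, 18]
  hchain := by decide +kernel
  hdeg := by decide +kernel
  hdegs := rfl
  hdpos := by decide +kernel
  hne := show ∃ j : Fin 8, ([0, 0, 0, 0, 0, 0, 0, 1] : List ℤ).getD j.val 0 = 1 by decide +kernel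

theorem cover : coverB Cfsg.Lie.chevE8.rank cert1.orb cert2.orb :=
  show ∀ b : Fin 8 → Bool, (∀ j : Fin 8, b j = false) ∨
    (List.ofFn fun j : Fin 8 => if b j then (1 : ℤ) else 0) ∈ orb1.map Prod.fst ∨
    (List.ofFn fun j : Fin 8 => if b j then (1 : ℤ) else 0) ∈ orb2.map Prod.fst by decide +kernel

theorem good (Φ : Chev Cfsg.Lie.chevE8) : Good Φ :=
  good_of_tab Φ tab
    (show ∀ i j : Fin 8, i ≠ j → (2 : ℤ) ∣ M i j → (2 : ℤ) ∣ M j i → M i j = 0 by decide +kernel)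
    (show ∀ J : Finset (Fin 8), (∀ k : Fin 8, (2 : ℤ) ∣ ∑ j ∈ J, M j k) → J = ∅ by decide +kernel)

end CfsgLib.InvTorus.E8
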