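import Cfsg.Agent.Lib.InvTorus.Classes
import Cfsg.Agent.Lib.Chev.OrderF4

/-!
The certificates for type F4.
-/

set_option autoImplicit false
set_option maxRecDepth 100000
set_option maxHeartbeats 4000000

namespace CfsgLib.InvTorus.F4

open Cfsg.Lie CfsgLib.Chev

/-- The Cartan matrix. -/
def M (i j : Fin 4) : ℤ :=
  ([[2, -1, 0, 0],
    [-1, 2, -2, 0],
    [0, -1, 2, -1],
    [0, 0, -1, 2]].getD i.val []).getD j.val 0

/-- Its inverse. -/
def Ainv (i j : Fin 4) : ℤ :=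
  ([[2, 3, 4, 2],
    [3, 6, 8, 4],
    [2, 4, 6, 3],
    [1, 2, 3, 2]].getD i.val []).getD j.val 0

/-- A part of a table. -/
def Vl_p0 : List (List ℤ) :=
  [[-2, -4, -3, -2],
   [-2, -4, -3, -1],
   [-2, -4, -2, -1],
   [-2, -3, -2, -1],
   [-2, -2, -2, -1],
   [-2, -2, -1, -1],
   [-2, -2, -1, 0],
   [-1, -3, -2, -1],
   [-1, -2, -2, -1],
   [-1, -2, -1, -1],
   [-1, -2, -1, 0],
   [-1, -1, -1, -1],
   [-1, -1, -1, 0],
   [-1, -1, 0, 0],
   [-1, 0, 0, 0],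
   [0, -2, -2, -1]]

/-- A part of a table. -/
def Vl_p1 : List (List ℤ) :=
  [[0, -2, -1, -1],
   [0, -2, -1, 0],
   [0, -1, -1, -1],
   [0, -1, -1, 0],
   [0, -1, 0, 0],
   [0, 0, -1, -1],
   [0, 0, -1, 0],
   [0, 0, 0, -1],
   [0, 0, 0, 1],
   [0, 0, 1, 0],
   [0, 0, 1, 1],
   [0, 1, 0, 0],
   [0, 1, 1, 0],
   [0, 1, 1, 1],
   [0, 2, 1, 0],
   [0, 2, 1, 1]]

/-- A part of a table. -/
def Vl_p2 : List (List ℤ) :=
  [[0, 2, 2, 1],
   [1, 0, 0, 0],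
   [1, 1, 0, 0],
   [1, 1, 1, 0],
   [1, 1, 1, 1],
   [1, 2, 1, 0],
   [1, 2, 1, 1],
   [1, 2, 2, 1],
   [1, 3, 2, 1],
   [2, 2, 1, 0],
   [2, 2, 1, 1],
   [2, 2, 2, 1],
   [2, 3, 2, 1],
   [2, 4, 2, 1],
   [2, 4, 3, 1],
   [2, 4, 3, 2]]

/-- The coordinates of the roots. -/
def Vl : List (List ℤ) :=
  Vl_p0 ++ Vl_p1 ++ Vl_p2

/-- The table of roots. -/
def tab : RootTab Cfsg.Lie.chevF4 where
  M := M
  Ainv := Ainv
  Vl := Vl
  hlen := by decide +kernel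
  hM := show ∀ a b : Fin 4, Cfsg.Lie.chevF4.cartan a.val (Cfsg.Lie.chevF4.simple b.val) = M a b by decide +kernel
  hinv := show ∀ j k : Fin 4, ∑ i, Ainv j i * M i k = if j = k then 1 else 0 by decide +kernel
  hV := show ∀ (i : Fin 4) (r : Fin 48), Cfsg.Lie.chevF4.cartan i.val r.val = ∑ k, M i k * Cert.get (Vl.getD r.val []) k by
    decide +kernel

/-- The data of class 1. -/
def base1 : BaseTab Cfsg.Lie.chevF4 4 where
  e := fun i : Fin 4 => [0, 1, 0, 0].getD i.val 0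
  βi := fun m : Fin 4 => ([24, 25, 30, 33] : List (Fin 48)).getD m.val 0
  βV := fun m : Fin 4 => [[0, 0, 0, 1],
    [0, 0, 1, 0],
    [0, 2, 1, 0],
    [1, 0, 0, 0]].getD m.val []
  βC := fun m : Fin 4 => [[0, 0, 0, 1],
    [0, 0, 1, 0],
    [0, 1, 1, 0],
    [1, 0, 0, 0]].getD m.val []
  Q := fun m : Fin 4 => [[0, 0, 0, 2],
    [0, -1, 2, 0],
    [0, 1, 0, 0],
    [2, 0, 0, 0]].getD m.val []
  d := 2
  N := 16

/-- A part of a table. -/
def orb1_p0 : Cert.Orbit :=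
  [([0, 1, 0, 0], 0),
   ([1, 1, 0, 0], 1),
   ([1, 0, 0, 0], 2)]

/-- The orbit of the levels. -/
def orb1 : Cert.Orbit :=
  orb1_p0

/-- A part of a table. -/
def orbS1_0_p0 : Cert.Orbit :=
  [([0, 1, 0, 0], 0),
   ([1, -1, 0, 0], 1),
   ([-1, 0, 1, 0], 2),
   ([0, 0, -1, 1], 3),
   ([0, 0, 1, -1], 4),
   ([1, 0, -1, 0], 5),
   ([-1, 1, 0, 0], 6),
   ([0, -1, 0, 0], 7)]

/-- An orbit of a coweight. -/
def orbS1_0 : Cert.Orbit :=
  orbS1_0_p0

/-- A part of a table. -/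
def orbS1_1_p0 : Cert.Orbit :=
  [([1, 0, 0, 0], 0),
   ([-1, 1, 1, 0], 1),
   ([0, 1, -1, 1], 2),
   ([0, 1, 1, -1], 3),
   ([1, 1, -1, 0], 4),
   ([-1, 2, 0, 0], 5)]

/-- An orbit of a coweight. -/
def orbS1_1 : Cert.Orbit :=
  orbS1_1_p0

/-- A part of a table. -/
def orbS1_2_p0 : Cert.Orbit :=
  [([0, 0, 1, 0], 0),
   ([1, 0, -1, 1], 1),
   ([1, 0, 1, -1], 2),
   ([2, 0, -1, 0], 3)]

/-- An orbit of a coweight. -/
def orbS1_2 : Cert.Orbit :=
  orbS1_2_p0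

/-- A part of a table. -/
def orbS1_3_p0 : Cert.Orbit :=
  [([0, 0, 0, 1], 0),
   ([0, 0, 2, -1], 1)]

/-- An orbit of a coweight. -/
def orbS1_3 : Cert.Orbit :=
  orbS1_3_p0

/-- The certificate of class 1. -/
def cert1 : ClassCert tab 4 where
  B := base1
  ok :=
    { d_ne := by decide +kernel
      hβV := show ∀ m : Fin 4, _ by decide +kernel
      hβC := show ∀ (m : Fin 4) (k : Fin 4), (Cfsg.Lie.chevF4.coroot.getD (base1.βi m).val #[]).getD k.val 0 =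
        Cert.get (base1.βC m) k by decide +kernel
      hβ := show ∀ m : Fin 4, _ by decide +kernel
      hdual := show ∀ m n : Fin 4, ∑ j : Fin 4, Cert.get (base1.βV m) j * Cert.get (base1.Q n) j =
        if m = n then base1.d else 0 by decide +kernel
      hrows := by decide +kernel
      hN := by decide +kernel }
  orb := orb1
  v := [0, 1, 0, 0]
  hv := show ∀ j : Fin 4, Cert.get [0, 1, 0, 0] j = [0, 1, 0, 0].getD j.val 0 ∧ ([0, 1, 0, 0] : List ℤ).getD j.val 0 % 2 = ([0, 1, 0, 0] : List ℤ).getD j.val 0 by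
    decide +kernel
  hvlen := rfl
  horb := by decide +kernel
  horb0 := by decide +kernel
  chain := [(1, orbS1_0), (0, orbS1_1), (2, orbS1_2), (3, orbS1_3)]
  degs := [2, 4, 6, 8]
  hchain := by decide +kernel
  hdeg := by decide +kernel
  hdegs := rfl
  hdpos := by decide +kernel
  hne := show ∃ j : Fin 4, ([0, 1, 0, 0] : List ℤ).getD j.val 0 = 1 by decide +kernel

/-- The data of class 2. -/
def base2 : BaseTab Cfsg.Lie.chevF4 4 where
  e := fun i : Fin 4 => [0, 0, 0, 1].getD i.val 0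
  βi := fun m : Fin 4 => ([25, 27, 33, 47] : List (Fin 48)).getD m.val 0
  βV := fun m : Fin 4 => [[0, 0, 1, 0],
    [0, 1, 0, 0],
    [1, 0, 0, 0],
    [2, 4, 3, 2]].getD m.val []
  βC := fun m : Fin 4 => [[0, 0, 1, 0],
    [0, 1, 0, 0],
    [1, 0, 0, 0],
    [1, 2, 3, 2]].getD m.val []
  Q := fun m : Fin 4 => [[0, 0, 2, -3],
    [0, 2, 0, -4],
    [2, 0, 0, -2],
    [0, 0, 0, 1]].getD m.val []
  d := 2
  N := 10

/-- A part of a table. -/
def orb2_p0 : Cert.Orbit :=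
  [([0, 0, 0, 1], 0),
   ([0, 0, 1, 1], 1),
   ([0, 1, 1, 0], 2),
   ([1, 1, 1, 0], 3),
   ([1, 0, 1, 0], 4),
   ([1, 0, 1, 1], 4),
   ([1, 1, 1, 1], 5),
   ([1, 0, 0, 1], 5),
   ([0, 1, 1, 1], 6),
   ([1, 1, 0, 1], 6),
   ([0, 0, 1, 0], 7),
   ([0, 1, 0, 1], 7)]

/-- The orbit of the levels. -/
def orb2 : Cert.Orbit :=
  orb2_p0

/-- A part of a table. -/
def orbS2_0_p0 : Cert.Orbit :=
  [([0, 0, 0, 1], 0),
   ([0, 0, 0, -1], 1)]

/-- An orbit of a coweight. -/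
def orbS2_0 : Cert.Orbit :=
  orbS2_0_p0

/-- A part of a table. -/
def orbS2_1_p0 : Cert.Orbit :=
  [([0, 0, 1, 0], 0),
   ([0, 1, -1, 0], 1),
   ([2, -1, 0, 0], 2),
   ([-2, 1, 0, 0], 3),
   ([0, -1, 1, 0], 4),
   ([0, 0, -1, 0], 5)]

/-- An orbit of a coweight. -/
def orbS2_1 : Cert.Orbit :=
  orbS2_1_p0

/-- A part of a table. -/
def orbS2_2_p0 : Cert.Orbit :=
  [([1, 0, 0, 0], 0),
   ([-1, 1, 0, 0], 1),
   ([1, -1, 1, 0], 2),
   ([-1, 0, 1, 0], 3)]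

/-- An orbit of a coweight. -/
def orbS2_2 : Cert.Orbit :=
  orbS2_2_p0

/-- A part of a table. -/
def orbS2_3_p0 : Cert.Orbit :=
  [([0, 1, 0, 0], 0),
   ([2, -1, 1, 0], 1)]

/-- An orbit of a coweight. -/
def orbS2_3 : Cert.Orbit :=
  orbS2_3_p0

/-- The certificate of class 2. -/
def cert2 : ClassCert tab 4 where
  B := base2
  ok :=
    { d_ne := by decide +kernel
      hβV := show ∀ m : Fin 4, _ by decide +kernel
      hβC := show ∀ (m : Fin 4) (k : Fin 4), (Cfsg.Lie.chevF4.coroot.getD (base2.βi m).val #[]).getD k.val 0 =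
        Cert.get (base2.βC m) k by decide +kernel
      hβ := show ∀ m : Fin 4, _ by decide +kernel
      hdual := show ∀ m n : Fin 4, ∑ j : Fin 4, Cert.get (base2.βV m) j * Cert.get (base2.Q n) j =
        if m = n then base2.d else 0 by decide +kernel
      hrows := by decide +kernel
      hN := by decide +kernel }
  orb := orb2
  v := [0, 0, 0, 1]
  hv := show ∀ j : Fin 4, Cert.get [0, 0, 0, 1] j = [0, 0, 0, 1].getD j.val 0 ∧ ([0, 0, 0, 1] : List ℤ).getD j.val 0 % 2 = ([0, 0, 0, 1] : List ℤ).getD j.val 0 by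
    decide +kernel
  hvlen := rfl
  horb := by decide +kernel
  horb0 := by decide +kernel
  chain := [(3, orbS2_0), (2, orbS2_1), (0, orbS2_2), (1, orbS2_3)]
  degs := [2, 2, 4, 6]
  hchain := by decide +kernel
  hdeg := by decide +kernel
  hdegs := rfl
  hdpos := by decide +kernel
  hne := show ∃ j : Fin 4, ([0, 0, 0, 1] : List ℤ).getD j.val 0 = 1 by decide +kernel

theorem cover : coverB Cfsg.Lie.chevF4.rank cert1.orb cert2.orb :=
  show ∀ b : Fin 4 → Bool, (∀ j : Fin 4, b j = false) ∨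
    (List.ofFn fun j : Fin 4 => if b j then (1 : ℤ) else 0) ∈ orb1.map Prod.fst ∨
    (List.ofFn fun j : Fin 4 => if b j then (1 : ℤ) else 0) ∈ orb2.map Prod.fst by decide +kernel

theorem good (Φ : Chev Cfsg.Lie.chevF4) : Good Φ :=
  good_of_tab Φ tab
    (show ∀ i j : Fin 4, i ≠ j → (2 : ℤ) ∣ M i j → (2 : ℤ) ∣ M j i → M i j = 0 by decide +kernel)
    (show ∀ J : Finset (Fin 4), (∀ k : Fin 4, (2 : ℤ) ∣ ∑ j ∈ J, M j k) → J = ∅ by decide +kernel)

end CfsgLib.InvTorus.F4
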