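import Cfsg.Agent.Lib.Chev.Bruhat
import Mathlib.GroupTheory.Perm.Cycle.Type

/-!
Over a finite field of odd order every involution of a Chevalley group stabilises an apartment.
-/

set_option autoImplicit false
set_option linter.dupNamespace false

namespace CfsgLib.InvTorus

open Cfsg.Lie Matrix CfsgLib.Chev CfsgLib.Chev.Chev

variable {D : ChevalleyDatum} (Φ : Chev D) {F : Type*} [Field F]

/-- Conjugacy under the Chevalley group. -/
def Cj (D : ChevalleyDatum) (x y : GL D.Idx F) : Prop := ∃ g ∈ D.group F, g * x * g⁻¹ = y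

theorem Cj.rfl' {x : GL D.Idx F} : Cj D x x := ⟨1, one_mem _, by group⟩

theorem Cj.trans {x y z : GL D.Idx F} (h : Cj D x y) (h' : Cj D y z) : Cj D x z := by
  obtain ⟨g, hg, rfl⟩ := h
  obtain ⟨g', hg', rfl⟩ := h'
  exact ⟨g' * g, mul_mem hg' hg, by group⟩

theorem Cj.symm {x y : GL D.Idx F} (h : Cj D x y) : Cj D y x := by
  obtain ⟨g, hg, rfl⟩ := h
  exact ⟨g⁻¹, inv_mem hg, by group⟩

theorem Cj.sq {x y : GL D.Idx F} (h : Cj D x y) (hx : x * x = 1) : y * y = 1 := by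
  obtain ⟨g, hg, rfl⟩ := h
  rw [show g * x * g⁻¹ * (g * x * g⁻¹) = g * (x * x) * g⁻¹ by group, hx, mul_one, mul_inv_cancel]

include Φ in
theorem U_mul_N_inj {v v' n n' : GL D.Idx F} (hv : v ∈ D.posUnipotent F) (hv' : v' ∈ D.posUnipotent F)
    (hn : n ∈ D.monomialSubgroup F) (hn' : n' ∈ D.monomialSubgroup F) (h : v * n = v' * n') : v = v' := by
  have h1 : v'⁻¹ * v = n' * n⁻¹ := by
    calc v'⁻¹ * v = v'⁻¹ * (v * n) * n⁻¹ := by group
      _ = _ := by rw [h]; group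
  have h2 := Φ.eq_one_of_mem_U_of_mem_N (mul_mem (inv_mem hv') hv) (h1 ▸ mul_mem hn' (inv_mem hn))
  exact (inv_mul_eq_one.1 h2).symm

/-- The unipotent elements `v` such that `t` carries the apartment of `v` to a standard one. -/
def apSet (D : ChevalleyDatum) (t : GL D.Idx F) : Set (GL D.Idx F) :=
  {v | v ∈ D.posUnipotent F ∧ ∃ v' ∈ D.posUnipotent F, ∃ n ∈ D.monomialSubgroup F, t * v = v' * n}

include Φ in
/-- An involution of the group is conjugate to an element of the monomial subgroup. -/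
theorem exists_cj_mem_N [Finite F] (hodd : Odd (Nat.card F)) {t : GL D.Idx F} (ht : t ∈ D.group F)
    (hsq : t * t = 1) : ∃ n ∈ D.monomialSubgroup F, Cj D t n := by
  classical
  obtain ⟨b, hb, n1, hn1, π, hπ, hm, u, hu, e⟩ := Φ.exists_normal_form ht
  obtain ⟨v0, hv0, h0, hh0, rfl⟩ := Φ.mem_B_iff.1 hb
  have huU := Φ.Uneg_le_U hu
  have hn : h0 * n1 ∈ D.monomialSubgroup F := mul_mem (H_le_N hh0) hn1
  have ti : t⁻¹ = t := inv_eq_of_mul_eq_one_right hsq
  set m := h0 * n1 with hm'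
  have e' : t = v0 * m * u := by rw [e, hm']; group
  let T : Subgroup (GL D.Idx F) :=
    D.posUnipotent F ⊓ (D.borelSubgroup F).comap (MulAut.conj m⁻¹).toMonoidHom
  have memT : ∀ w, w ∈ T ↔ w ∈ D.posUnipotent F ∧ m⁻¹ * w * m ∈ D.borelSubgroup F := fun w => by
    simp [T, MulAut.conj_apply]
  have key : ∀ v, v ∈ apSet D t ↔ v⁻¹ * v0 ∈ T := by
    intro v
    rw [memT]
    constructor
    · rintro ⟨hv, v', hv', n, hn', e1⟩
      refine ⟨mul_mem (inv_mem hv) hv0, ?_⟩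
      have e2 : v⁻¹ * v0 * m * u = 1 * n⁻¹ * v'⁻¹ := by
        calc v⁻¹ * v0 * m * u = v⁻¹ * t := by rw [e']; group
          _ = (t * v)⁻¹ := by rw [_root_.mul_inv_rev, ti]
          _ = _ := by rw [e1]; group
      have hH := Φ.bnb_unique (U_le_B (mul_mem (inv_mem hv) hv0)) (one_mem _) (U_le_B huU)
        (U_le_B (inv_mem hv')) hn (inv_mem hn') e2
      have e3 : m⁻¹ * (v⁻¹ * v0) * m = m⁻¹ * n⁻¹ * v'⁻¹ * u⁻¹ := by
        calc m⁻¹ * (v⁻¹ * v0) * m = m⁻¹ * (v⁻¹ * v0 * m * u) * u⁻¹ := by group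
          _ = _ := by rw [e2]; group
      rw [e3]
      exact mul_mem (mul_mem (H_le_B hH) (U_le_B (inv_mem hv'))) (U_le_B (inv_mem huU))
    · rintro ⟨hw, hB⟩
      have hv : v ∈ D.posUnipotent F := by
        have := mul_mem hv0 (inv_mem hw)
        simpa using this
      obtain ⟨x, hx, y, hy, exy⟩ := Φ.mem_B_iff.1 (mul_mem hB (U_le_B huU))
      have e4 : v⁻¹ * t = m * (x * y) := by rw [← exy, e']; group
      refine ⟨hv, (y⁻¹ * x * y)⁻¹, inv_mem ?_, (m * y)⁻¹, inv_mem (mul_mem hn (H_le_N hy)), ?_⟩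
      · simpa using (Subgroup.mem_normalizer_iff.1 (Φ.H_le_normalizer_U (inv_mem hy)) x).1 hx
      · calc t * v = (v⁻¹ * t)⁻¹ := by rw [_root_.mul_inv_rev, ti, inv_inv]
          _ = _ := by rw [e4]; group
  let eT : apSet D t ≃ T :=
    { toFun := fun v => ⟨v.1⁻¹ * v0, (key _).1 v.2⟩
      invFun := fun w => ⟨v0 * w.1⁻¹, (key _).2 (by simp)⟩
      left_inv := fun v => Subtype.ext (by simp)
      right_inv := fun w => Subtype.ext (by simp) }
  have hcard : ¬ 2 ∣ Nat.card (apSet D t) := by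
    rw [Nat.card_congr eT]
    have h1 : Nat.card T ∣ Nat.card (D.posUnipotent F) := Subgroup.card_dvd_of_le inf_le_left
    rw [Φ.card_U] at h1
    intro h2
    exact Nat.not_even_iff_odd.2 hodd.pow (even_iff_two_dvd.2 (h2.trans h1))
  choose f hf n' hn' hfe using fun v : apSet D t => v.2.2
  have hmem : ∀ v, f v ∈ apSet D t := fun v => ⟨hf v, v.1, v.2.1, (n' v)⁻¹, inv_mem (hn' v), by
    rw [show f v = t * v.1 * (n' v)⁻¹ by rw [hfe v]; group,
      show t * (t * v.1 * (n' v)⁻¹) = t * t * v.1 * (n' v)⁻¹ by group, hsq, one_mul]⟩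
  have hinv : Function.Involutive fun v : apSet D t => (⟨f v, hmem v⟩ : apSet D t) := by
    intro v
    refine Subtype.ext ?_
    refine U_mul_N_inj Φ (hf _) v.2.1 (hn' _) (inv_mem (hn' v)) ((hfe ⟨f v, hmem v⟩).symm.trans ?_)
    show t * f v = v.1 * (n' v)⁻¹
    rw [show f v = t * v.1 * (n' v)⁻¹ by rw [hfe v]; group,
      show t * (t * v.1 * (n' v)⁻¹) = t * t * v.1 * (n' v)⁻¹ by group, hsq, one_mul]
  haveI : Finite (GL D.Idx F) := inferInstance
  haveI := Fintype.ofFinite (apSet D t)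
  haveI : Fact (Nat.Prime 2) := ⟨Nat.prime_two⟩
  obtain ⟨v, hv⟩ := Equiv.Perm.exists_fixed_point_of_prime (p := 2) (n := 1)
    (σ := hinv.toPerm _) (by rwa [← Nat.card_eq_fintype_card]) (by
      rw [pow_one, pow_two]
      exact Equiv.ext fun x => hinv x)
  have hv' : f v = v.1 := congrArg Subtype.val hv
  refine ⟨n' v, hn' v, v.1⁻¹, inv_mem (Φ.B_le_group (U_le_B v.2.1)), ?_⟩
  rw [inv_inv, mul_assoc, hfe v, hv', inv_mul_cancel_left]

end CfsgLib.InvTorus
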