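import Cfsg.Agent.Lib.InvTorus.Tables

/-!
The two classes of involutions and the orders of their centralizers.
-/

set_option autoImplicit false
set_option linter.dupNamespace false
set_option linter.unusedSectionVars false

namespace CfsgLib.InvTorus

open Cfsg.Lie Matrix CfsgLib.Chev CfsgLib.Chev.Chev

variable {D : ChevalleyDatum} (Φ : Chev D) {F : Type*} [Field F]

theorem two_ne_zero' [Fintype F] (hF : Odd (Fintype.card F)) : (2 : F) ≠ 0 := fun h => by
  haveI : CharP F 2 := CharTwo.of_one_ne_zero_of_two_eq_zero one_ne_zero h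
  have := FiniteField.even_card_of_char_two (F := F) (ringChar.eq F 2)
  rw [Nat.odd_iff] at hF
  omega

include Φ in
theorem torus_mem_H [Finite F] (hH : Nat.card (D.diagonalSubgroup F) = (Nat.card F - 1) ^ D.rank)
    (c : Fin D.rank → Fˣ) : Φ.toAlg.torus c ∈ D.diagonalSubgroup F := by
  haveI : Fintype F := Fintype.ofFinite F
  have h1 := hH
  rw [Φ.diagonalSubgroup_eq, MonoidHom.range_comp, Subgroup.card_map_of_injective Φ.torus_injective] at h1
  have htop : (Φ.coHom F).range = ⊤ := Subgroup.eq_top_of_card_eq _ (by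
    rw [h1, Nat.card_fun, Nat.card_fin, Nat.card_units])
  rw [Φ.diagonalSubgroup_eq, MonoidHom.range_comp, htop]
  exact ⟨c, Subgroup.mem_top _, rfl⟩

theorem coprime_prod (q : ℕ) (hq : 0 < q) : ∀ degs : List ℕ, (∀ d ∈ degs, 0 < d) →
    Nat.Coprime q (degs.map fun d => q ^ d - 1).prod
  | [], _ => Nat.coprime_one_right q
  | d :: ds, h => by
    rw [List.map_cons, List.prod_cons]
    refine Nat.Coprime.mul_right ?_ (coprime_prod q hq ds fun x hx => h x (List.mem_cons_of_mem _ hx))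
    have hd : 0 < d := h d List.mem_cons_self
    have h1 : 1 ≤ q ^ d := Nat.one_le_pow _ _ hq
    have hc : Nat.Coprime (q ^ d) (q ^ d - 1) := (Nat.coprime_self_sub_right h1).2 (Nat.coprime_one_right _)
    exact (Nat.coprime_pow_left_iff hd q _).1 hc

theorem ne_of_power_ne (q : ℕ) (hq : 1 < q) {a b : ℕ} (hab : a ≠ b) {X Y : ℕ} (hX : Nat.Coprime q X)
    (hY : Nat.Coprime q Y) : q ^ a * X ≠ q ^ b * Y := by
  wlog h : a < b generalizing a b X Y
  · exact (this hab.symm hY hX (lt_of_le_of_ne (not_lt.1 h) hab.symm)).symm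
  intro e
  obtain ⟨k, rfl⟩ := Nat.exists_eq_add_of_lt h
  rw [show q ^ (a + k + 1) * Y = q ^ a * (q * (q ^ k * Y)) by ring] at e
  have h2 := Nat.eq_of_mul_eq_mul_left (pow_pos (by omega) a) e
  have h3 := Nat.eq_one_of_dvd_coprimes hX (dvd_refl q) ⟨_, h2⟩
  omega

/-- The certificate of one class. -/
structure ClassCert (T : RootTab D) (l : ℕ) where
  B : BaseTab D l
  ok : B.OK T
  orb : Cert.Orbit
  v : List ℤ
  hv : ∀ j : Fin D.rank, Cert.get v j = B.e j ∧ B.e j % 2 = B.e j
  hvlen : v.length = D.rank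
  horb : orbOK T.M v orb = true
  horb0 : 0 < orb.length
  chain : List (Fin l × Cert.Orbit)
  degs : List ℕ
  hchain : Cert.chainOK (B.MS T.M) (List.finRange l) chain = true
  hdeg : Cert.eqP (Cert.chainP chain) (Cert.degP degs) = true
  hdegs : degs.length = D.rank
  hdpos : ∀ d ∈ degs, 0 < d
  hne : ∃ j : Fin D.rank, B.e j = 1

namespace ClassCert

variable {T : RootTab D} {l : ℕ} (C : ClassCert T l)

/-- The torus element. -/
noncomputable def elt (F : Type*) [Field F] : GL D.Idx F := Φ.toAlg.torus (sgn F C.B.e)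

theorem v_eq : C.v = List.ofFn fun j => C.B.e j % 2 := by
  conv_lhs => rw [← Cert.ofFn_get C.hvlen]
  exact congrArg List.ofFn (funext fun j => (C.hv j).1.trans (C.hv j).2.symm)

theorem elt_sq : C.elt Φ F * C.elt Φ F = 1 := by
  rw [elt, ← map_mul, show sgn F C.B.e * sgn F C.B.e = (1 : Fin D.rank → Fˣ) from funext fun j => by
    show ((-1 : Fˣ) ^ C.B.e j) * ((-1 : Fˣ) ^ C.B.e j) = 1
    rw [← mul_zpow]
    simp, map_one]

theorem elt_ne (h2 : (2 : F) ≠ 0) : C.elt Φ F ≠ 1 := fun h => by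
  rw [elt, ← map_one (Φ.toAlg.torus (R := F))] at h
  obtain ⟨j, hj⟩ := C.hne
  have := congrFun (Φ.torus_injective h) j
  simp only [sgn, hj, zpow_one, Pi.one_apply] at this
  exact neg_one_ne_one h2 this

theorem card_cent [Fintype F] (h2 : (2 : F) ≠ 0)
    (hW : Φ.WFin.card ≤ C.orb.length * Cert.evalP 1 (Cert.chainP C.chain))
    (hH : Nat.card (D.diagonalSubgroup F) = (Nat.card F - 1) ^ D.rank) :
    Nat.card (centG D (C.elt Φ F)) =
      Fintype.card F ^ C.B.N * (C.degs.map fun d => Fintype.card F ^ d - 1).prod := by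
  set S := BaseTab.toSub Φ C.ok
  have hM : ∀ a b, pr Φ (S.β a) (S.β b) = C.B.MS T.M a b := BaseTab.MS_eq Φ C.ok
  have hsum := fun q => S.sum_WSFin_chain hM C.chain _ C.hchain q
  have hS : stabE Φ C.B.e = S.WSFin (List.finRange l) := by
    refine S.stabE_eq (T.A_eq Φ) C.v_eq C.horb C.horb0 ?_
    have h1 := hsum 1
    simp only [one_pow, Finset.sum_const, smul_eq_mul, mul_one] at h1
    rwa [h1]
  rw [elt, card_centG_sgn Φ h2 S hS (torus_mem_H Φ hH _), hsum, hH, BaseTab.card_posEv Φ C.ok,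
    Nat.card_eq_fintype_card (α := F), Cert.evalP_eqP _ _ _ C.hdeg]
  obtain ⟨m, hm⟩ : ∃ m, Fintype.card F = m + 1 := ⟨Fintype.card F - 1, by
    have : 0 < Fintype.card F := Fintype.card_pos
    omega⟩
  rw [hm, Nat.add_sub_cancel, mul_assoc, ← Cert.evalP_degP m, C.hdegs]

end ClassCert

/-- The lists of vectors cover all non-zero vectors. -/
def coverB (l : ℕ) (L1 L2 : Cert.Orbit) : Prop :=
  ∀ b : Fin l → Bool, (∀ j, b j = false) ∨
    (List.ofFn fun j => if b j then (1 : ℤ) else 0) ∈ L1.map Prod.fst ∨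
    (List.ofFn fun j => if b j then (1 : ℤ) else 0) ∈ L2.map Prod.fst

theorem cj_of_involution [Fintype F] {T : RootTab D} {l1 l2 : ℕ} (C1 : ClassCert T l1) (C2 : ClassCert T l2)
    (hG : Good Φ) (hF : Odd (Fintype.card F)) (hcov : coverB D.rank C1.orb C2.orb)
    {g : GL D.Idx F} (hg : g ∈ D.group F) (hsq : g * g = 1) (hne : g ≠ 1) :
    Cj D g (C1.elt Φ F) ∨ Cj D g (C2.elt Φ F) := by
  have h2 := two_ne_zero' hF
  obtain ⟨n, hn, hc1⟩ := exists_cj_mem_N Φ (by rwa [Nat.card_eq_fintype_card]) hg hsq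
  obtain ⟨h, hh, hc2⟩ := exists_cj_mem_H Φ h2 hG hn (hc1.sq hsq)
  have hc := hc1.trans hc2
  obtain ⟨c, rfl⟩ := Φ.exists_torus_of_mem_H hh
  have hcc : c * c = 1 := Φ.torus_injective (by rw [map_mul, hc.sq hsq, map_one])
  classical
  set b : Fin D.rank → Bool := fun j => decide (c j = -1) with hb
  have hc' : c = sgn F (Cert.get (List.ofFn fun j => if b j then (1 : ℤ) else 0)) := by
    funext j
    simp only [sgn, Cert.get_ofFn]
    by_cases hj : c j = -1
    · simp [hb, hj]
    · have h1 : (c j : F) * (c j : F) = 1 := by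
        have := congrArg Units.val (congrFun hcc j)
        simpa using this
      rcases mul_self_eq_one_iff.1 h1 with h3 | h3
      · rw [if_neg (by simp [hb, hj]), zpow_zero]
        exact Units.ext (by simpa using h3)
      · exact absurd (Units.ext (by simpa using h3)) hj
  rcases hcov b with h0 | h1 | h3
  · exfalso
    have : c = 1 := by
      rw [hc']
      funext j
      simp [sgn, Cert.get_ofFn, h0 j]
    rw [this, map_one] at hc
    obtain ⟨k, -, hk⟩ := hc
    rw [mul_inv_eq_one, mul_eq_left] at hk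
    exact hne hk
  · left
    refine hc.trans (Cj.symm ?_)
    rw [hc']
    have := cj_sgn_orbit (F := F) Φ (T.A_eq Φ) C1.horb h1
    rwa [show Cert.get C1.v = C1.B.e from funext fun j => (C1.hv j).1] at this
  · right
    refine hc.trans (Cj.symm ?_)
    rw [hc']
    have := cj_sgn_orbit (F := F) Φ (T.A_eq Φ) C2.horb h3
    rwa [show Cert.get C2.v = C2.B.e from funext fun j => (C2.hv j).1] at this

theorem orderOf_two {G : Type*} [Group G] {x : G} (h : x * x = 1) (hne : x ≠ 1) : orderOf x = 2 :=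
  orderOf_eq_prime (by rw [pow_two]; exact h) hne

theorem card_centralizer_conj {G : Type*} [Group G] {s t : G} (h : IsConj s t) :
    Nat.card (Subgroup.centralizer ({s} : Set G)) = Nat.card (Subgroup.centralizer ({t} : Set G)) := by
  obtain ⟨g, hg⟩ := isConj_iff.1 h
  refine Nat.card_congr ((MulAut.conj g).toEquiv.subtypeEquiv fun x => ?_)
  rw [Subgroup.mem_centralizer_singleton_iff, Subgroup.mem_centralizer_singleton_iff, ← hg]
  show x * s = s * x ↔ g * x * g⁻¹ * (g * s * g⁻¹) = g * s * g⁻¹ * (g * x * g⁻¹)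
  rw [show g * x * g⁻¹ * (g * s * g⁻¹) = g * (x * s) * g⁻¹ by group,
    show g * s * g⁻¹ * (g * x * g⁻¹) = g * (s * x) * g⁻¹ by group, mul_left_inj, mul_right_inj]

/-- The two classes of involutions. -/
theorem involution_classes [Fintype F] {T : RootTab D} {l1 l2 : ℕ} (C1 : ClassCert T l1) (C2 : ClassCert T l2)
    (hG : Good Φ) (hF : Odd (Fintype.card F)) (hcov : coverB D.rank C1.orb C2.orb) (hN : C1.B.N ≠ C2.B.N)
    (hW1 : Φ.WFin.card ≤ C1.orb.length * Cert.evalP 1 (Cert.chainP C1.chain))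
    (hW2 : Φ.WFin.card ≤ C2.orb.length * Cert.evalP 1 (Cert.chainP C2.chain))
    (hH : Nat.card (D.diagonalSubgroup F) = (Nat.card F - 1) ^ D.rank) :
    ∃ s t : ↥(D.group F), orderOf s = 2 ∧ orderOf t = 2 ∧ ¬ IsConj s t ∧
      (∀ u : ↥(D.group F), orderOf u = 2 → IsConj u s ∨ IsConj u t) ∧
      Nat.card (Subgroup.centralizer ({s} : Set ↥(D.group F))) =
        Fintype.card F ^ C1.B.N * (C1.degs.map fun d => Fintype.card F ^ d - 1).prod ∧
      Nat.card (Subgroup.centralizer ({t} : Set ↥(D.group F))) =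
        Fintype.card F ^ C2.B.N * (C2.degs.map fun d => Fintype.card F ^ d - 1).prod := by
  have h2 := two_ne_zero' hF
  have hmem : ∀ c, Φ.toAlg.torus c ∈ D.group F := fun c =>
    Φ.B_le_group (Chev.H_le_B (torus_mem_H (F := F) Φ hH c))
  let s : ↥(D.group F) := ⟨C1.elt Φ F, hmem _⟩
  let t : ↥(D.group F) := ⟨C2.elt Φ F, hmem _⟩
  have hs := (card_centralizer_eq s).trans (C1.card_cent Φ h2 hW1 hH)
  have ht := (card_centralizer_eq t).trans (C2.card_cent Φ h2 hW2 hH)
  refine ⟨s, t, orderOf_two (Subtype.ext (C1.elt_sq Φ)) (fun h => C1.elt_ne Φ h2 (congrArg Subtype.val h)),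
    orderOf_two (Subtype.ext (C2.elt_sq Φ)) (fun h => C2.elt_ne Φ h2 (congrArg Subtype.val h)), ?_, ?_, hs, ht⟩
  · intro h
    exact ne_of_power_ne _ Fintype.one_lt_card hN (coprime_prod _ Fintype.card_pos _ C1.hdpos)
      (coprime_prod _ Fintype.card_pos _ C2.hdpos) (hs.symm.trans ((card_centralizer_conj h).trans ht))
  · intro u hu
    have hsq : u * u = 1 := by rw [← pow_two, ← hu, pow_orderOf_eq_one]
    have hne : u ≠ 1 := fun h => by
      rw [h, orderOf_one] at hu
      exact absurd hu (by norm_num)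
    rcases cj_of_involution Φ C1 C2 hG hF hcov u.2 (congrArg Subtype.val hsq)
      (fun h => hne (Subtype.ext h)) with h | h
    · obtain ⟨g, hg, he⟩ := h
      exact Or.inl (isConj_iff.2 ⟨⟨g, hg⟩, Subtype.ext he⟩)
    · obtain ⟨g, hg, he⟩ := h
      exact Or.inr (isConj_iff.2 ⟨⟨g, hg⟩, Subtype.ext he⟩)

theorem good_of_tab (T : RootTab D)
    (h1 : ∀ i j : Fin D.rank, i ≠ j → (2 : ℤ) ∣ T.M i j → (2 : ℤ) ∣ T.M j i → T.M i j = 0)
    (h2 : ∀ J : Finset (Fin D.rank), (∀ k, (2 : ℤ) ∣ ∑ j ∈ J, T.M j k) → J = ∅) : Good Φ where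
  adj := fun i j => by rw [T.A_eq Φ, T.A_eq Φ]; exact h1 i j
  par := fun J h => h2 J fun k => by simpa [T.A_eq Φ] using h k

end CfsgLib.InvTorus
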