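import Cfsg.Agent.Lib.G2SL3.RegTorus

/-!
The order of the centralizer in a Chevalley group of a torus element.
-/

set_option autoImplicit false
set_option linter.dupNamespace false
set_option linter.unusedSectionVars false

namespace CfsgLib.InvTorus

open Cfsg.Lie Matrix CfsgLib.Chev CfsgLib.Chev.Chev

variable {D : ChevalleyDatum} (Φ : Chev D) {F : Type*} [Field F]

theorem mem_US_of_commute {c : Fin D.rank → Fˣ} {S : Fin D.nroots → Prop}
    (hpos : ∀ r, S r → Φ.toTables.Pos r) (hcl : Φ.Closed S)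
    {u : GL D.Idx F} (hu : u ∈ Φ.US F S) (h : Commute (Φ.toAlg.torus c) u) :
    u ∈ Φ.US F (fun r => S r ∧ Φ.toSys.chi c r = 1) := by
  classical
  obtain ⟨v, rfl⟩ := (Φ.mem_US_iff hpos hcl).1 hu
  have e := h.eq
  rw [CfsgLib.G2SL3.torus_prodL] at e
  have e' := Φ.prodL_injective (pairwise_rootList S) (fun r hr => hpos r (mem_rootList.mp hr))
    (mul_right_cancel e)
  refine Subgroup.list_prod_mem _ fun g hg => ?_
  obtain ⟨r, hr, rfl⟩ := List.mem_map.mp hg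
  by_cases hc : Φ.toSys.chi c r = 1
  · exact Φ.xg_mem_US (show S r ∧ _ from ⟨mem_rootList.mp hr, hc⟩) _
  have hv : v r = 0 := by
    have e2 : ((Φ.toSys.chi c r : F) - 1) * v r = 0 := by rw [sub_mul, one_mul, e' r hr, sub_self]
    exact (mul_eq_zero.1 e2).resolve_left (sub_ne_zero.2 fun h1 => hc (Units.ext h1))
  rw [hv, Φ.toAlg.xg_zero]
  exact one_mem _

theorem commute_of_mem_US {c : Fin D.rank → Fˣ} {S : Fin D.nroots → Prop}
    (hS : ∀ r, S r → Φ.toSys.chi c r = 1) {u : GL D.Idx F} (hu : u ∈ Φ.US F S) :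
    Commute (Φ.toAlg.torus c) u := by
  have h : Φ.US F S ≤ Subgroup.centralizer {Φ.toAlg.torus c} := by
    rw [US, Subgroup.closure_le]
    rintro _ ⟨r, t, hr, rfl⟩
    rw [SetLike.mem_coe, Subgroup.mem_centralizer_singleton_iff, Φ.toAlg.torus_xg, hS r hr,
      Units.val_one, one_mul]
  exact (Subgroup.mem_centralizer_singleton_iff.1 (h hu)).symm

theorem closed_inter_chi (c : Fin D.rank → Fˣ) {S : Fin D.nroots → Prop} (h : Φ.Closed S) :
    Φ.Closed fun r => S r ∧ Φ.toSys.chi c r = 1 :=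
  fun r s hr hs hN => ⟨h r s hr.1 hs.1 hN, by rw [Φ.toSys.chi_add c hN, hr.2, hs.2, one_mul]⟩

/-- A monomial element commutes with the torus element exactly when its permutation stabilises the character. -/
theorem chi_of_commute {c : Fin D.rank → Fˣ} {n : GL D.Idx F} {π : Equiv.Perm (Fin D.nroots)}
    (hm : Φ.Mono n π) (h : Commute (Φ.toAlg.torus c) n) (r : Fin D.nroots) :
    Φ.toSys.chi c (π r) = Φ.toSys.chi c r := by
  obtain ⟨a, ha, a1, -⟩ := hm.1 r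
  refine Units.ext ?_
  set z := Φ.toAlg.torus c
  have e : z * Φ.toAlg.xg (π r) a * z⁻¹ = Φ.toAlg.xg (π r) (a * (Φ.toSys.chi c r : F)) := by
    have h1 := a1 (1 : F)
    rw [mul_one] at h1
    calc z * Φ.toAlg.xg (π r) a * z⁻¹ = z * (n * Φ.toAlg.xg r (1 : F) * n⁻¹) * z⁻¹ := by rw [h1]
      _ = (z * n * z⁻¹) * (z * Φ.toAlg.xg r (1 : F) * z⁻¹) * (z * n * z⁻¹)⁻¹ := by group
      _ = _ := by rw [h.eq, mul_inv_cancel_right, Φ.toAlg.torus_xg, mul_inv_cancel_right, mul_one, a1]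
  rw [Φ.toAlg.torus_xg, mul_inv_cancel_right] at e
  exact mul_left_cancel₀ ha (by rw [mul_comm]; exact Φ.toAlg.xg_injective _ e)

theorem commute_of_chi {c : Fin D.rank → Fˣ} (hH : Φ.toAlg.torus c ∈ D.diagonalSubgroup F)
    {n : GL D.Idx F} {π : Equiv.Perm (Fin D.nroots)} (hn : n ∈ D.monomialSubgroup F) (hm : Φ.Mono n π)
    (hπ : ∀ r, Φ.toSys.chi c (π r) = Φ.toSys.chi c r) : Commute (Φ.toAlg.torus c) n := by
  obtain ⟨d, hd⟩ := Φ.exists_torus_of_mem_H (Φ.H_conj_mem hn hH)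
  suffices e : d = c by
    subst e
    exact (mul_inv_eq_iff_eq_mul.1 hd).symm
  funext i
  refine Units.ext ?_
  obtain ⟨a, ha, a1, -⟩ := hm.1 (π⁻¹ (Φ.p i))
  set r := π⁻¹ (Φ.p i) with hr
  have hπr : π r = Φ.p i := π.apply_symm_apply _
  rw [hπr] at a1
  have e : Φ.toAlg.torus d * Φ.toAlg.xg (Φ.p i) (a * 1) * (Φ.toAlg.torus d)⁻¹ =
      Φ.toAlg.xg (Φ.p i) (a * (Φ.toSys.chi c r : F)) := by
    rw [← hd, ← a1 1, show n * Φ.toAlg.torus c * n⁻¹ * (n * Φ.toAlg.xg r (1 : F) * n⁻¹) * (n * Φ.toAlg.torus c * n⁻¹)⁻¹ =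
      n * (Φ.toAlg.torus c * Φ.toAlg.xg r (1 : F) * (Φ.toAlg.torus c)⁻¹) * n⁻¹ by group,
      Φ.toAlg.torus_xg, mul_inv_cancel_right, mul_one, a1]
  rw [Φ.toAlg.torus_xg, mul_inv_cancel_right, Φ.toSys.chi_simple, mul_one] at e
  have e2 := Φ.toAlg.xg_injective _ e
  have e3 := hπ r
  rw [hπr, Φ.toSys.chi_simple] at e3
  rw [← e3, mul_comm a] at e2
  exact mul_right_cancel₀ ha e2

/-- The normal form of an element commuting with a torus element. -/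
theorem commute_parts {c : Fin D.rank → Fˣ} (hH : Φ.toAlg.torus c ∈ D.diagonalSubgroup F)
    {g : GL D.Idx F} (hg : g ∈ D.group F) (h : Commute (Φ.toAlg.torus c) g) :
    ∃ v ∈ Φ.US F (fun r => Φ.toTables.Pos r ∧ Φ.toSys.chi c r = 1), ∃ x ∈ D.diagonalSubgroup F,
      ∃ n ∈ D.monomialSubgroup F, ∃ π ∈ Φ.WL, Φ.Mono n π ∧ (∀ r, Φ.toSys.chi c (π r) = Φ.toSys.chi c r) ∧
        ∃ u ∈ Φ.US F (fun r => (Φ.toTables.Pos r ∧ ¬ Φ.toTables.Pos (π r)) ∧ Φ.toSys.chi c r = 1),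
          g = v * x * n * u := by
  set t := Φ.toAlg.torus c with ht
  obtain ⟨b, hb, n, hn, π, hπ, hm, u, hu, rfl⟩ := Φ.exists_normal_form hg
  have h2 : t * n * t⁻¹ * n⁻¹ ∈ D.diagonalSubgroup F := by
    rw [show t * n * t⁻¹ * n⁻¹ = t * (n * t⁻¹ * n⁻¹) by group]
    exact mul_mem hH (Φ.H_conj_mem hn (inv_mem hH))
  have htb : t * b * t⁻¹ * (t * n * t⁻¹ * n⁻¹) ∈ D.borelSubgroup F :=
    mul_mem (mul_mem (mul_mem (H_le_B hH) hb) (inv_mem (H_le_B hH))) (H_le_B h2)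
  have htu : t * u * t⁻¹ ∈ Φ.Uneg F π :=
    (Subgroup.mem_normalizer_iff.1 (Φ.H_le_normalizer_US _ hH) u).1 hu
  have e : t * b * t⁻¹ * (t * n * t⁻¹ * n⁻¹) * n * (t * u * t⁻¹) = b * n * u := by
    calc _ = t * (b * n * u) * t⁻¹ := by group
      _ = _ := by rw [h.eq, mul_inv_cancel_right]
  obtain ⟨e1, e2⟩ := Φ.normal_form_unique hm htb hb htu hu e
  have huK := mem_US_of_commute Φ (fun r hr => hr.1) (Φ.closed_pos_neg hπ) hu
    (mul_inv_eq_iff_eq_mul.1 e2)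
  obtain ⟨v, hv, x, hx, rfl⟩ := Φ.mem_B_iff.1 hb
  have hv' : t * v * t⁻¹ ∈ D.posUnipotent F :=
    (Subgroup.mem_normalizer_iff.1 (Φ.H_le_normalizer_U hH) v).1 hv
  have htx : t * x * t⁻¹ = x := by rw [(Φ.H_comm hH hx).eq, mul_inv_cancel_right]
  have e3 : t * v * t⁻¹ * (x * (t * n * t⁻¹ * n⁻¹)) = v * x := by
    conv_rhs => rw [← e1]
    calc _ = t * v * t⁻¹ * ((t * x * t⁻¹) * (t * n * t⁻¹ * n⁻¹)) := by rw [htx]
      _ = _ := by group
  have hUN : v⁻¹ * (t * v * t⁻¹) = x * (x * (t * n * t⁻¹ * n⁻¹))⁻¹ := by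
    calc v⁻¹ * (t * v * t⁻¹)
        = v⁻¹ * (t * v * t⁻¹ * (x * (t * n * t⁻¹ * n⁻¹))) * (x * (t * n * t⁻¹ * n⁻¹))⁻¹ := by group
      _ = _ := by rw [e3]; group
  have hv1 := Φ.eq_one_of_mem_U_of_mem_N (mul_mem (inv_mem hv) hv')
    (hUN ▸ H_le_N (mul_mem hx (inv_mem (mul_mem hx h2))))
  have hvc : t * v * t⁻¹ = v := (inv_mul_eq_one.1 hv1).symm
  have hvK : v ∈ Φ.US F (fun r => Φ.toTables.Pos r ∧ Φ.toSys.chi c r = 1) := by
    rw [Φ.posUnipotent_eq_US] at hv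
    exact mem_US_of_commute Φ (fun r hr => hr) Φ.closed_pos hv (mul_inv_eq_iff_eq_mul.1 hvc)
  rw [hvc] at e3
  have hn1 : t * n * t⁻¹ * n⁻¹ = 1 := by simpa using mul_left_cancel e3
  have htn : Commute t n := mul_inv_eq_iff_eq_mul.1 (mul_inv_eq_one.1 hn1)
  exact ⟨v, hvK, x, hx, n, hn, π, hπ, hm, chi_of_commute Φ hm htn, u, huK, rfl⟩

/-- The positive roots on which the character is trivial. -/
noncomputable def posOne (c : Fin D.rank → Fˣ) : Finset (Fin D.nroots) :=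
  letI := Classical.decPred fun r => Φ.toTables.Pos r ∧ Φ.toSys.chi c r = 1
  Finset.univ.filter fun r => Φ.toTables.Pos r ∧ Φ.toSys.chi c r = 1

/-- The positive roots with trivial character made negative. -/
noncomputable def negOne' (c : Fin D.rank → Fˣ) (π : Equiv.Perm (Fin D.nroots)) : Finset (Fin D.nroots) :=
  letI := Classical.decPred fun r => (Φ.toTables.Pos r ∧ ¬ Φ.toTables.Pos (π r)) ∧ Φ.toSys.chi c r = 1
  Finset.univ.filter fun r => (Φ.toTables.Pos r ∧ ¬ Φ.toTables.Pos (π r)) ∧ Φ.toSys.chi c r = 1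

/-- The stabiliser of the character in the Weyl group. -/
noncomputable def stabFin (c : Fin D.rank → Fˣ) : Finset (Equiv.Perm (Fin D.nroots)) :=
  letI := Classical.decPred fun π : Equiv.Perm (Fin D.nroots) =>
    π ∈ Φ.WL ∧ ∀ r, Φ.toSys.chi c (π r) = Φ.toSys.chi c r
  Finset.univ.filter fun π => π ∈ Φ.WL ∧ ∀ r, Φ.toSys.chi c (π r) = Φ.toSys.chi c r

theorem mem_stabFin {c : Fin D.rank → Fˣ} {π : Equiv.Perm (Fin D.nroots)} :
    π ∈ stabFin Φ c ↔ π ∈ Φ.WL ∧ ∀ r, Φ.toSys.chi c (π r) = Φ.toSys.chi c r := by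
  simp [stabFin]

/-- The centralizer of the torus element in the group. -/
def centG (D : ChevalleyDatum) (x : GL D.Idx F) : Subgroup (GL D.Idx F) :=
  D.group F ⊓ Subgroup.centralizer {x}

theorem mem_centG {x g : GL D.Idx F} : g ∈ centG D x ↔ g ∈ D.group F ∧ Commute x g := by
  rw [centG, Subgroup.mem_inf, Subgroup.mem_centralizer_singleton_iff]
  exact and_congr_right fun _ => ⟨fun h => h.symm, fun h => h.eq.symm⟩

theorem card_centG [Finite F] {c : Fin D.rank → Fˣ} (hH : Φ.toAlg.torus c ∈ D.diagonalSubgroup F) :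
    Nat.card (centG D (Φ.toAlg.torus c)) = Nat.card F ^ (posOne Φ c).card * Nat.card (D.diagonalSubgroup F) *
      ∑ π ∈ stabFin Φ c, Nat.card F ^ (negOne' Φ c π).card := by
  classical
  choose rep hrepN hrep using fun π : stabFin Φ c => Φ.exists_preimage F (mem_stabFin Φ |>.1 π.2).1
  have hcomm : ∀ π, Commute (Φ.toAlg.torus c) (rep π) := fun π =>
    commute_of_chi Φ hH (hrepN π) (hrep π) (mem_stabFin Φ |>.1 π.2).2
  let A := Φ.US F (fun r => Φ.toTables.Pos r ∧ Φ.toSys.chi c r = 1)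
  let B := fun π : Equiv.Perm (Fin D.nroots) =>
    Φ.US F (fun r => (Φ.toTables.Pos r ∧ ¬ Φ.toTables.Pos (π r)) ∧ Φ.toSys.chi c r = 1)
  have hA : A ≤ D.posUnipotent F := by
    rw [Φ.posUnipotent_eq_US]; exact Φ.US_mono fun r hr => hr.1
  have hB : ∀ π, B π ≤ Φ.Uneg F π := fun π => Φ.US_mono fun r hr => hr.1
  have hBU : ∀ π, B π ≤ D.posUnipotent F := fun π u hu => Φ.Uneg_le_U (hB π hu)
  let f : (Σ π : stabFin Φ c, (A × D.diagonalSubgroup F) × B π.1) → centG D (Φ.toAlg.torus c) := fun x =>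
    ⟨(x.2.1.1 : GL D.Idx F) * x.2.1.2 * rep x.1 * x.2.2, mem_centG.2 ⟨mul_mem (mul_mem (mul_mem
      (Φ.B_le_group (U_le_B (hA x.2.1.1.2))) (Φ.B_le_group (H_le_B x.2.1.2.2)))
      (Φ.N_le_group (hrepN x.1))) (Φ.B_le_group (U_le_B (hBU _ x.2.2.2))),
      (((commute_of_mem_US Φ (fun r hr => hr.2) x.2.1.1.2).mul_right (Φ.H_comm hH x.2.1.2.2)).mul_right
        (hcomm x.1)).mul_right (commute_of_mem_US Φ (fun r hr => hr.2) x.2.2.2)⟩⟩
  have hbij : Function.Bijective f := by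
    constructor
    · rintro ⟨π, ⟨⟨v, hv⟩, ⟨h, hh⟩⟩, ⟨u, hu⟩⟩ ⟨π', ⟨⟨v', hv'⟩, ⟨h', hh'⟩⟩, ⟨u', hu'⟩⟩ e
      have e' : v * h * rep π * u = v' * h' * rep π' * u' := congrArg Subtype.val e
      have hb := mul_mem (U_le_B (hA hv)) (H_le_B hh)
      have hb' := mul_mem (U_le_B (hA hv')) (H_le_B hh')
      have hH' := Φ.bnb_unique hb hb' (U_le_B (hBU _ hu)) (U_le_B (hBU _ hu')) (hrepN π) (hrepN π') e'
      obtain rfl : π = π' := Subtype.ext (Φ.same_perm hH' (hrep π) (hrep π'))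
      obtain ⟨e1, rfl⟩ := Φ.normal_form_unique (hrep π) hb hb' (hB _ hu) (hB _ hu') e'
      have h1 : v'⁻¹ * v = h' * h⁻¹ := by
        calc v'⁻¹ * v = v'⁻¹ * (v * h) * h⁻¹ := by group
          _ = _ := by rw [e1]; group
      have h3 : v'⁻¹ * v = 1 := Φ.eq_one_of_mem_U_of_mem_N (mul_mem (inv_mem (hA hv')) (hA hv))
        (h1 ▸ H_le_N (mul_mem hh' (inv_mem hh)))
      rw [inv_mul_eq_one] at h3
      subst h3
      obtain rfl := mul_left_cancel e1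
      rfl
    · rintro ⟨g, hg⟩
      obtain ⟨hgG, hgc⟩ := mem_centG.1 hg
      obtain ⟨v, hv, x, hx, n, hn, π, hπ, hm, hπc, u, hu, rfl⟩ := commute_parts Φ hH hgG hgc
      set π' : stabFin Φ c := ⟨π, (mem_stabFin Φ).2 ⟨hπ, hπc⟩⟩ with hπ'
      have hH' := Φ.inv_mul_mem_H (hrepN π') hn (hrep π') hm
      refine ⟨⟨π', ⟨⟨v, hv⟩, ⟨x * (rep π' * ((rep π')⁻¹ * n) * (rep π')⁻¹),
        mul_mem hx (Φ.H_conj_mem (hrepN π') hH')⟩⟩, ⟨u, hu⟩⟩, Subtype.ext ?_⟩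
      show v * (x * (rep π' * ((rep π')⁻¹ * n) * (rep π')⁻¹)) * rep π' * u = v * x * n * u
      group
  rw [← Nat.card_congr (Equiv.ofBijective _ hbij), Nat.card_sigma, Finset.mul_sum,
    ← Finset.sum_attach (stabFin Φ c)]
  refine Finset.sum_congr rfl fun π _ => ?_
  rw [Nat.card_prod, Nat.card_prod,
    Φ.card_US (fun r hr => hr.1) (closed_inter_chi Φ c Φ.closed_pos),
    Φ.card_US (fun r hr => hr.1.1) (closed_inter_chi Φ c (Φ.closed_pos_neg (mem_stabFin Φ |>.1 π.2).1))]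
  congr 2
  · congr 1
    rw [Nat.card_eq_fintype_card, Fintype.card_subtype, posOne]
    congr! 2
  · rw [Nat.card_eq_fintype_card, Fintype.card_subtype, negOne']
    congr! 2

end CfsgLib.InvTorus
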