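import Cfsg.Agent.Lib.InvTorus.CertF4

/-!
The orders of the torus and the Weyl group of type F4.
-/

set_option autoImplicit false
set_option linter.dupNamespace false

namespace CfsgLib.InvTorus.F4

open Cfsg.Lie CfsgLib.Chev

theorem weyl_le (Φ : Chev Cfsg.Lie.chevF4) (n : ℕ) (h : 1152 ≤ n) : Φ.WFin.card ≤ n := by
  refine le_trans (le_of_eq ?_) h
  rw [← cardWF4 Φ, ← Nat.card_eq_finsetCard]
  exact Nat.card_congr (Equiv.subtypeEquivRight fun π => Φ.mem_WFin)

theorem card_diag (Φ : Chev Cfsg.Lie.chevF4) (F : Type*) [Field F] [Finite F] :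
    Nat.card (Cfsg.Lie.chevF4.diagonalSubgroup F) = (Nat.card F - 1) ^ Cfsg.Lie.chevF4.rank := by
  have h := cardHF4 Φ F
  simp [Fin.prod_univ_succ] at h
  exact h

end CfsgLib.InvTorus.F4
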