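import Cfsg.Agent.Lib.Chev.WeylCentre
import Cfsg.Agent.Lib.Chev.SL2Hom
import Cfsg.Agent.Lib.Chev.Bruhat

/-!
Products of the Weyl elements of pairwise orthogonal fundamental roots.
-/

set_option autoImplicit false
set_option linter.dupNamespace false
set_option linter.unusedSectionVars false

namespace CfsgLib.InvTorus

open Cfsg.Lie Matrix CfsgLib.Chev CfsgLib.Chev.Chev

variable {D : ChevalleyDatum} (Φ : Chev D) {F : Type*} [Field F]

/-- Orthogonality of fundamental roots. -/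
def Orth (i j : Fin D.rank) : Prop := i ≠ j ∧ Φ.A i (Φ.p j) = 0 ∧ Φ.A j (Φ.p i) = 0

theorem Orth.symm {i j : Fin D.rank} (h : Orth Φ i j) : Orth Φ j i := ⟨h.1.symm, h.2.2, h.2.1⟩

theorem refl_orth {i j : Fin D.rank} (h : Orth Φ i j) : Φ.refl i (Φ.p j) = Φ.p j := by
  refine Φ.toSys.V_inj fun k => ?_
  rw [Φ.V_refl, h.2.1]
  simp

theorem p_injective : Function.Injective Φ.p := fun i j h => by
  have := congrArg (fun r => Φ.V r i) h
  by_contra hn
  simp [Φ.V_p, Ne.symm hn] at this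

theorem not_root_orth {i j : Fin D.rank} (h : Orth Φ i j) {a b : ℤ} (ha : a = 1 ∨ a = -1)
    (hb : b = 1 ∨ b = -1) (r : Fin D.nroots) :
    ¬ ∀ k, Φ.V r k = a * (if i = k then 1 else 0) + b * (if j = k then 1 else 0) := by
  intro hr
  have mixed : ∀ s : Fin D.nroots, ∀ c d : ℤ, Φ.V s i = c → Φ.V s j = d → 0 < c → d < 0 → False := by
    intro s c d hc hd hc0 hd0
    by_cases hs : Φ.toTables.Pos s
    · have := Φ.V_nonneg s hs j
      omega
    · have := Φ.V_nonpos s hs i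
      omega
  have hi : Φ.V r i = a := by rw [hr]; simp [h.1.symm]
  have hj : Φ.V r j = b := by rw [hr]; simp [h.1]
  have hA : Φ.A i r = 2 * a := by
    rw [Φ.A_lin i r]
    rw [Finset.sum_congr rfl fun k _ => by rw [hr k]]
    simp [mul_add, add_mul, Finset.sum_add_distrib, ite_mul, mul_ite, Finset.sum_ite_eq, h.2.1, Φ.A_pp]
    ring
  have hri : Φ.V (Φ.refl i r) i = -a := by rw [Φ.V_refl, if_pos rfl, hi, hA]; ring
  have hrj : Φ.V (Φ.refl i r) j = b := by rw [Φ.V_refl, if_neg h.1.symm, hj, sub_zero]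
  rcases ha with rfl | rfl <;> rcases hb with rfl | rfl
  · exact mixed (Φ.refl i r).rev 1 (-1) (by rw [Φ.V_neg, hri]; rfl) (by rw [Φ.V_neg, hrj]) one_pos (by norm_num)
  · exact mixed r 1 (-1) hi hj one_pos (by norm_num)
  · exact mixed r.rev 1 (-1) (by rw [Φ.V_neg, hi]; rfl) (by rw [Φ.V_neg, hj]) one_pos (by norm_num)
  · exact mixed (Φ.refl i r) 1 (-1) (by rw [hri]; rfl) hrj one_pos (by norm_num)

theorem N_orth {i j : Fin D.rank} (h : Orth Φ i j) {r s : Fin D.nroots}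
    (hr : r = Φ.p i ∨ r = (Φ.p i).rev) (hs : s = Φ.p j ∨ s = (Φ.p j).rev) :
    s ≠ r.rev ∧ Φ.N r s = 0 := by
  obtain ⟨a, ha, hra⟩ : ∃ a : ℤ, (a = 1 ∨ a = -1) ∧ ∀ k, Φ.V r k = a * (if i = k then 1 else 0) := by
    rcases hr with rfl | rfl
    · exact ⟨1, Or.inl rfl, fun k => by rw [Φ.V_p]; simp⟩
    · exact ⟨-1, Or.inr rfl, fun k => by rw [Φ.V_neg, Φ.V_p]; split_ifs <;> simp⟩
  obtain ⟨b, hb, hsb⟩ : ∃ b : ℤ, (b = 1 ∨ b = -1) ∧ ∀ k, Φ.V s k = b * (if j = k then 1 else 0) := by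
    rcases hs with rfl | rfl
    · exact ⟨1, Or.inl rfl, fun k => by rw [Φ.V_p]; simp⟩
    · exact ⟨-1, Or.inr rfl, fun k => by rw [Φ.V_neg, Φ.V_p]; split_ifs <;> simp⟩
  constructor
  · intro e
    have := congrArg (fun x => Φ.V x j) e
    rw [Φ.V_neg, hsb, hra, if_pos rfl, if_neg h.1] at this
    omega
  · by_contra hN
    exact not_root_orth Φ h ha hb (Φ.S r s) fun k => by rw [Φ.V_add r s hN, hra, hsb]

theorem nw_commute_xg {i j : Fin D.rank} (h : Orth Φ i j) {s : Fin D.nroots}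
    (hs : s = Φ.p j ∨ s = (Φ.p j).rev) (u : Fˣ) (t : F) :
    Commute (Φ.nw (Φ.p i) u) (Φ.toAlg.xg s t) := by
  obtain ⟨h1, h2⟩ := N_orth Φ h (Or.inl rfl) hs
  obtain ⟨h3, h4⟩ := N_orth Φ h (Or.inr rfl) hs
  exact ((Φ.toAlg.xg_commute h1 h2 _ _).mul_left (Φ.toAlg.xg_commute h3 h4 _ _)).mul_left
    (Φ.toAlg.xg_commute h1 h2 _ _)

theorem nw_commute_nw {i j : Fin D.rank} (h : Orth Φ i j) (u v : Fˣ) :
    Commute (Φ.nw (Φ.p i) u) (Φ.nw (Φ.p j) v) :=
  ((nw_commute_xg Φ h (Or.inl rfl) u _).mul_right (nw_commute_xg Φ h (Or.inr rfl) u _)).mul_right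
    (nw_commute_xg Φ h (Or.inl rfl) u _)

/-- The product of the Weyl elements of a list of fundamental roots. -/
def PN (F : Type*) [Field F] (l : List (Fin D.rank)) : GL D.Idx F :=
  (l.map fun i => Φ.nw (Φ.p i) (1 : Fˣ)).prod

/-- The product of the reflections of a list of fundamental roots. -/
def PW (l : List (Fin D.rank)) : Equiv.Perm (Fin D.nroots) := (l.map Φ.reflPerm).prod

theorem PN_mem_N (l : List (Fin D.rank)) : PN Φ F l ∈ D.monomialSubgroup F :=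
  Subgroup.list_prod_mem _ fun x hx => by
    obtain ⟨i, -, rfl⟩ := List.mem_map.1 hx
    exact Φ.nw_mem_N _ _

theorem PW_mem_WK (l : List (Fin D.rank)) : PW Φ l ∈ Φ.WK {i | i ∈ l} :=
  Subgroup.list_prod_mem _ fun x hx => by
    obtain ⟨i, hi, rfl⟩ := List.mem_map.1 hx
    exact Φ.reflPerm_mem_WK hi

theorem PW_mem_WL (l : List (Fin D.rank)) : PW Φ l ∈ Φ.WL := Φ.WK_le_WL _ (PW_mem_WK Φ l)

theorem PN_mono : ∀ l : List (Fin D.rank), Φ.Mono (PN Φ F l) (PW Φ l)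
  | [] => Chev.Mono.one Φ
  | a :: l => by
    simp only [PN, PW, List.map_cons, List.prod_cons]
    exact Chev.Mono.mul Φ (Φ.nw_one_mono a) (PN_mono l)

theorem PW_fix {j : Fin D.rank} : ∀ {l : List (Fin D.rank)}, (∀ i ∈ l, Orth Φ i j) →
    PW Φ l (Φ.p j) = Φ.p j
  | [], _ => rfl
  | a :: l, h => by
    simp only [PW, List.map_cons, List.prod_cons, Equiv.Perm.mul_apply]
    rw [← PW, PW_fix fun i hi => h i (List.mem_cons_of_mem _ hi)]
    exact refl_orth Φ (h a List.mem_cons_self)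

theorem PN_commute_nw {j : Fin D.rank} : ∀ {l : List (Fin D.rank)}, (∀ i ∈ l, Orth Φ i j) →
    Commute (PN Φ F l) (Φ.nw (Φ.p j) (1 : Fˣ))
  | [], _ => Commute.one_left _
  | a :: l, h => by
    simp only [PN, List.map_cons, List.prod_cons]
    exact (nw_commute_nw Φ (h a List.mem_cons_self) _ _).mul_left
      (PN_commute_nw fun i hi => h i (List.mem_cons_of_mem _ hi))

theorem PN_commute_xg {j : Fin D.rank} {s : Fin D.nroots} (hs : s = Φ.p j ∨ s = (Φ.p j).rev) (t : F) :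
    ∀ {l : List (Fin D.rank)}, (∀ i ∈ l, Orth Φ i j) → Commute (PN Φ F l) (Φ.toAlg.xg s t)
  | [], _ => Commute.one_left _
  | a :: l, h => by
    simp only [PN, List.map_cons, List.prod_cons]
    exact (nw_commute_xg Φ (h a List.mem_cons_self) hs _ _).mul_left
      (PN_commute_xg hs t fun i hi => h i (List.mem_cons_of_mem _ hi))

theorem PN_conj_xg {j : Fin D.rank} (t : F) : ∀ {l : List (Fin D.rank)}, l.Pairwise (Orth Φ) → j ∈ l →
    PN Φ F l * Φ.toAlg.xg (Φ.p j) t = Φ.toAlg.xg (Φ.p j).rev (-t) * PN Φ F l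
  | [], _, h => absurd h (List.not_mem_nil)
  | a :: l, hl, h => by
    rw [List.pairwise_cons] at hl
    show Φ.nw (Φ.p a) 1 * PN Φ F l * _ = _ * (Φ.nw (Φ.p a) 1 * PN Φ F l)
    rcases List.mem_cons.1 h with rfl | h'
    · rw [mul_assoc, (PN_commute_xg Φ (Or.inl rfl) t fun i hi => (hl.1 i hi).symm Φ).eq, ← mul_assoc,
        Φ.nw_xg_self, mul_assoc]
    · rw [mul_assoc, PN_conj_xg t hl.2 h', ← mul_assoc,
        (nw_commute_xg Φ (hl.1 j h') (Or.inr rfl) _ _).eq, mul_assoc]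

theorem PW_rev {j : Fin D.rank} : ∀ {l : List (Fin D.rank)}, l.Pairwise (Orth Φ) → j ∈ l →
    PW Φ l (Φ.p j) = (Φ.p j).rev
  | [], _, h => absurd h (List.not_mem_nil)
  | a :: l, hl, h => by
    rw [List.pairwise_cons] at hl
    show Φ.reflPerm a (PW Φ l (Φ.p j)) = _
    rcases List.mem_cons.1 h with rfl | h'
    · rw [PW_fix Φ fun i hi => (hl.1 i hi).symm Φ]
      exact Φ.refl_p j
    · rw [PW_rev hl.2 h']
      show Φ.refl a (Φ.p j).rev = _
      rw [Φ.refl_rev, refl_orth Φ (hl.1 j h')]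

theorem PN_sq : ∀ {l : List (Fin D.rank)}, l.Pairwise (Orth Φ) →
    PN Φ F l * PN Φ F l = Φ.toAlg.torus ((l.map fun j => Φ.toAlg.cartanChar j (-1 : Fˣ)).prod)
  | [], _ => by simp [PN]
  | a :: l, hl => by
    rw [List.pairwise_cons] at hl
    show Φ.nw (Φ.p a) 1 * PN Φ F l * (Φ.nw (Φ.p a) 1 * PN Φ F l) = _
    rw [List.map_cons, List.prod_cons, map_mul, ← PN_sq hl.2, ← Φ.hw_p, ← Φ.nw_sq, mul_assoc,
      ← mul_assoc (PN Φ F l), (PN_commute_nw Φ fun i hi => (hl.1 i hi).symm Φ).eq]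
    group

theorem torus_PN : ∀ {l : List (Fin D.rank)}, l.Pairwise (Orth Φ) → ∀ c : Fin D.rank → Fˣ,
    Φ.toAlg.torus c * PN Φ F l =
      PN Φ F l * Φ.toAlg.torus (c * ((l.map fun j => Φ.toAlg.cartanChar j (c j)).prod)⁻¹)
  | [], _, c => by simp [PN]
  | a :: l, hl, c => by
    rw [List.pairwise_cons] at hl
    have hc : ∀ j ∈ l, Φ.reflChar a c j = c j := fun j hj => by
      show c j * (Φ.toAlg.cartanChar a (c a) j)⁻¹ = _
      rw [Alg.cartanChar, (hl.1 j hj).2.1, zpow_zero, _root_.inv_one, mul_one]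
    show Φ.toAlg.torus c * (Φ.nw (Φ.p a) 1 * PN Φ F l) = Φ.nw (Φ.p a) 1 * PN Φ F l * _
    rw [← mul_assoc, Φ.torus_nw_one, mul_assoc, torus_PN hl.2, ← mul_assoc]
    congr 2
    rw [List.map_congr_left (g := fun j => Φ.toAlg.cartanChar j (c j)) fun j hj => by rw [hc j hj],
      List.map_cons, List.prod_cons]
    funext k
    show c k * (Φ.toAlg.cartanChar a (c a) k)⁻¹ * _ = _
    simp only [Pi.mul_apply, Pi.inv_apply, _root_.mul_inv_rev]
    ac_rfl

end CfsgLib.InvTorus
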