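import Cfsg.Agent.Lib.Chev.SL2Hom
import Cfsg.Agent.Lib.Chev.Bruhat
import Cfsg.Agent.Lib.InvTorus.Apartment
import Mathlib.FieldTheory.Finite.Basic

/-!
Conjugation of an involutive monomial element by the rank one subgroup of a root that it negates.
-/

set_option autoImplicit false
set_option linter.dupNamespace false
set_option linter.unusedSectionVars false

namespace CfsgLib.InvTorus

open Cfsg.Lie Matrix CfsgLib.Chev CfsgLib.Chev.Chev CfsgLib.Chev.RankOne

variable {D : ChevalleyDatum} (Φ : Chev D) {F : Type*} [Field F]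

/-- The rank one homomorphism of a root. -/
noncomputable def phi (r : Fin D.nroots) : SpecialLinearGroup (Fin 2) F →* GL D.Idx F :=
  (Φ.rankOne F r).hom

theorem phi_u (r : Fin D.nroots) (t : F) : phi Φ r (u t) = Φ.toAlg.xg r t := hom_u _ t

theorem phi_l (r : Fin D.nroots) (t : F) : phi Φ r (l t) = Φ.toAlg.xg r.rev t := hom_l _ t

theorem phi_mem_group (r : Fin D.nroots) (g : SpecialLinearGroup (Fin 2) F) : phi Φ r g ∈ D.group F := by
  have h : (phi Φ r (F := F)).range ≤ D.group F := by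
    rw [phi, range_hom, Subgroup.closure_le]
    rintro _ (⟨t, rfl⟩ | ⟨t, rfl⟩)
    · exact Φ.toAlg.xg_mem_group r t
    · exact Φ.toAlg.xg_mem_group r.rev t
  exact h ⟨g, rfl⟩

/-- The diagonal matrix. -/
def dg (a : Fˣ) : SpecialLinearGroup (Fin 2) F :=
  ⟨!![(a : F), 0; 0, ((a⁻¹ : Fˣ) : F)], by simp [Matrix.det_fin_two]⟩

theorem phi_dg (r : Fin D.nroots) (a : Fˣ) : phi Φ r (dg a) = Φ.hw r a := by
  show (Φ.rankOne F r).f (dg a) = _
  rw [f_of_zero _ (by simp [dg]) a (by simp [dg]), show (dg a).1 0 1 = 0 by simp [dg], zero_div,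
    RankOne.x_zero, mul_one]
  rfl

theorem phi_w (r : Fin D.nroots) : phi Φ r (F := F) w = Φ.nw r 1 := by
  show (Φ.rankOne F r).f w = _
  have h := (Φ.rankOne F r).f_w_mul 1
  rw [mul_one, RankOne.f_one, mul_one] at h
  exact h

/-- Conjugation by the matrix `(0, 1; a, 0)`. -/
def tau (a : Fˣ) : SpecialLinearGroup (Fin 2) F →* SpecialLinearGroup (Fin 2) F where
  toFun g := ⟨!![g.1 1 1, ((a⁻¹ : Fˣ) : F) * g.1 1 0; (a : F) * g.1 0 1, g.1 0 0], by
    have := g.2
    rw [Matrix.det_fin_two] at this ⊢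
    simp
    field_simp
    linear_combination this⟩
  map_one' := Subtype.ext (by ext i j; fin_cases i <;> fin_cases j <;> simp)
  map_mul' g h := Subtype.ext (by
    show _ = _ * _
    ext i j
    fin_cases i <;> fin_cases j <;>
      simp [Matrix.mul_apply, Fin.sum_univ_two] <;> field_simp <;> ring)

/-- `n` carries `x_r(t)` to `x_{-r}(a t)`. -/
def Neg (n : GL D.Idx F) (r : Fin D.nroots) (a : Fˣ) : Prop :=
  ∀ t : F, n * Φ.toAlg.xg r t * n⁻¹ = Φ.toAlg.xg r.rev ((a : F) * t)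

theorem exists_neg {n : GL D.Idx F} {π : Equiv.Perm (Fin D.nroots)} (hm : Φ.Mono n π) {r : Fin D.nroots}
    (h : π r = r.rev) : ∃ a, Neg Φ n r a := by
  obtain ⟨a, ha, h1, -⟩ := hm.1 r
  exact ⟨Units.mk0 a ha, fun t => by rw [h1, h]; rfl⟩

theorem conj_phi {n : GL D.Idx F} (hn : n * n = 1) {r : Fin D.nroots} {a : Fˣ} (h : Neg Φ n r a)
    (g : SpecialLinearGroup (Fin 2) F) : n * phi Φ r g * n⁻¹ = phi Φ r (tau a g) := by
  have ni : n⁻¹ = n := inv_eq_of_mul_eq_one_right hn
  have key : ((MulAut.conj n).toMonoidHom.comp (phi Φ r (F := F))) = (phi Φ r).comp (tau a) := by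
    refine MonoidHom.eq_of_eqOn_dense RankOne.closure_u_w ?_
    have hu : ∀ t : F, n * phi Φ r (u t) * n⁻¹ = phi Φ r (tau a (u t)) := fun t => by
      rw [show tau a (u t) = l ((a : F) * t) from Subtype.ext (by
          show !![_, _; _, _] = !![_, _; _, _]
          ext i j; fin_cases i <;> fin_cases j <;> simp [u]),
        phi_u, phi_l, h t]
    have hl : ∀ t : F, n * phi Φ r (l t) * n⁻¹ = phi Φ r (tau a (l t)) := fun t => by
      rw [show tau a (l t) = u (((a⁻¹ : Fˣ) : F) * t) from Subtype.ext (by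
          show !![_, _; _, _] = !![_, _; _, _]
          ext i j; fin_cases i <;> fin_cases j <;> simp [l]),
        phi_u, phi_l]
      have h1 := h (((a⁻¹ : Fˣ) : F) * t)
      rw [← mul_assoc, Units.mul_inv, one_mul] at h1
      rw [← h1, ni]
      generalize Φ.toAlg.xg r (((a⁻¹ : Fˣ) : F) * t) = z
      rw [show n * (n * z * n) * n = n * n * z * (n * n) by simp only [mul_assoc], hn, one_mul, mul_one]
    rintro g (⟨t, rfl⟩ | rfl)
    · exact hu t
    · have hw : (w : SpecialLinearGroup (Fin 2) F) = u 1 * l (-1) * u 1 := Subtype.ext (by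
        show _ = _ * _ * _
        ext i j; fin_cases i <;> fin_cases j <;> simp [u, l, w, Matrix.mul_apply, Fin.sum_univ_two])
      simp only [MonoidHom.comp_apply, hw, map_mul]
      show n * phi Φ r (u 1) * n⁻¹ * (n * phi Φ r (l (-1)) * n⁻¹) * (n * phi Φ r (u 1) * n⁻¹) = _
      rw [hu, hl]
  exact DFunLike.congr_fun key g

theorem cj_of_eq {n : GL D.Idx F} (hn : n * n = 1) {r : Fin D.nroots} {a : Fˣ} (h : Neg Φ n r a)
    {k m : SpecialLinearGroup (Fin 2) F} (hk : m * tau a k = k) : Cj D n (phi Φ r m * n) := by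
  refine ⟨phi Φ r k, phi_mem_group Φ r k, ?_⟩
  have e := conj_phi Φ hn h k⁻¹
  rw [map_inv, map_inv, map_inv] at e
  calc phi Φ r k * n * (phi Φ r k)⁻¹ = phi Φ r k * (n * (phi Φ r k)⁻¹ * n⁻¹) * n := by group
    _ = phi Φ r k * (phi Φ r (tau a k))⁻¹ * n := by rw [e]
    _ = _ := by
      conv_lhs => arg 1; arg 1; rw [← hk, map_mul]
      rw [mul_inv_cancel_right]

theorem exists_sq_sub [Finite F] (h2 : (2 : F) ≠ 0) {d : F} (hd : d ≠ 0) (c : F) :
    ∃ u y : F, u ^ 2 - d * y ^ 2 = c := by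
  classical
  haveI := Fintype.ofFinite F
  have hodd : Fintype.card F % 2 = 1 :=
    FiniteField.odd_card_of_char_ne_two fun h => h2 (by
      have := (ringChar.spec F 2).2 (by rw [h])
      exact_mod_cast this)
  obtain ⟨u, y, h⟩ := FiniteField.exists_root_sum_quadratic (R := F)
    (f := Polynomial.X ^ 2 - Polynomial.C c) (g := Polynomial.C (-d) * Polynomial.X ^ 2)
    (Polynomial.degree_X_pow_sub_C (by norm_num) c) (Polynomial.degree_C_mul_X_pow 2 (neg_ne_zero.2 hd)) hodd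
  refine ⟨u, y, ?_⟩
  simp at h
  linear_combination h

/-- Conjugates of `n` by the rank one subgroup: every multiple by the torus of the root. -/
theorem cj_flip [Finite F] (h2 : (2 : F) ≠ 0) {n : GL D.Idx F} (hn : n * n = 1) {r : Fin D.nroots} {a : Fˣ}
    (h : Neg Φ n r a) (lam : Fˣ) : Cj D n (Φ.hw r lam * n) := by
  obtain ⟨v, y, e⟩ := exists_sq_sub h2 a.ne_zero (lam : F)
  let k : SpecialLinearGroup (Fin 2) F := ⟨!![v, y; (a : F) * y / lam, v / lam], by
    rw [Matrix.det_fin_two_of]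
    field_simp
    linear_combination e⟩
  rw [← phi_dg Φ r lam]
  refine cj_of_eq Φ hn h (k := k) (Subtype.ext ?_)
  show !![(lam : F), 0; 0, ((lam⁻¹ : Fˣ) : F)] * !![_, _; _, _] = k.1
  ext i j
  fin_cases i <;> fin_cases j <;> simp [k, Matrix.mul_apply, Fin.sum_univ_two] <;> field_simp

/-- If the coefficient is a square the root can be removed from the permutation. -/
theorem cj_square (h2 : (2 : F) ≠ 0) {n : GL D.Idx F} (hn : n * n = 1) {r : Fin D.nroots} {a : Fˣ}
    (h : Neg Φ n r a) (ha : IsSquare (a : F)) : ∃ t : Fˣ, Cj D n (Φ.hw r t * Φ.nw r 1 * n) := by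
  obtain ⟨c, hc⟩ := ha
  have hc0 : c ≠ 0 := fun h => a.ne_zero (by rw [hc, h, mul_zero])
  refine ⟨(Units.mk0 c hc0)⁻¹, ?_⟩
  let k : SpecialLinearGroup (Fin 2) F := ⟨!![1 / 2, 1 / (2 * c); -c, 1], by
    rw [Matrix.det_fin_two_of]
    field_simp
    ring⟩
  rw [← phi_dg Φ r _, ← phi_w Φ r, ← map_mul]
  refine cj_of_eq Φ hn h (k := k) (Subtype.ext ?_)
  show (!![((Units.mk0 c hc0)⁻¹ : Fˣ).val, 0; 0, (((Units.mk0 c hc0)⁻¹)⁻¹ : Fˣ).val] * !![0, 1; -1, 0]) *
    !![_, _; _, _] = k.1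
  ext i j
  fin_cases i <;> fin_cases j <;>
    simp [k, Matrix.mul_apply, Fin.sum_univ_two, hc] <;> field_simp

end CfsgLib.InvTorus
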