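import Cfsg.Agent.Lib.InvTorus.Orth
import Cfsg.Agent.Lib.InvTorus.RankOneFlip
import Mathlib.NumberTheory.LegendreSymbol.QuadraticChar.Basic

/-!
Involutions of the monomial subgroup are conjugate into the torus, if the Cartan matrix is invertible
modulo two.
-/

set_option autoImplicit false
set_option linter.dupNamespace false
set_option linter.unusedSectionVars false

namespace CfsgLib.InvTorus

open Cfsg.Lie Matrix CfsgLib.Chev CfsgLib.Chev.Chev

variable {D : ChevalleyDatum} (Φ : Chev D) {F : Type*} [Field F]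

theorem list_prod_map_toList {M ι : Type*} [CommMonoid M] (s : Finset ι) (f : ι → M) :
    (s.toList.map f).prod = ∏ i ∈ s, f i := Finset.prod_map_toList s f

theorem neg_pow_even [Finite F] [DecidableEq F] (h2 : (2 : F) ≠ 0) {ι : Type*} (J : Finset ι) (u : ι → Fˣ) (z : ι → ℤ)
    (hu : ∀ j ∈ J, ¬ IsSquare (u j : F)) (w : Fˣ) (h : w * w * ∏ j ∈ J, u j ^ z j = 1) :
    (2 : ℤ) ∣ ∑ j ∈ J, z j := by
  classical
  haveI := Fintype.ofFinite F
  let ψ : Fˣ →* ℤˣ := (quadraticChar F).toUnitHom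
  have hv : ∀ j ∈ J, ψ (u j) = -1 := fun j hj => by
    refine Units.ext ?_
    show ((quadraticChar F).toUnitHom (u j) : ℤ) = _
    rw [MulChar.coe_toUnitHom, quadraticChar_neg_one_iff_not_isSquare.2 (hu j hj)]
    rfl
  have h1 := congrArg ψ h
  rw [map_mul, map_mul, map_prod, map_one, Int.units_mul_self, one_mul,
    Finset.prod_congr rfl fun j hj => by rw [map_zpow, hv j hj]] at h1
  have h3 : ∀ s : Finset ι, ∏ j ∈ s, (-1 : ℤˣ) ^ z j = (-1 : ℤˣ) ^ ∑ j ∈ s, z j := by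
    intro s
    induction s using Finset.induction_on with
    | empty => simp
    | insert j s hj ih => rw [Finset.prod_insert hj, Finset.sum_insert hj, ih, _root_.zpow_add]
  rw [h3] at h1
  rcases Int.even_or_odd (∑ j ∈ J, z j) with he | ho
  · exact even_iff_two_dvd.1 he
  · rw [Odd.neg_one_zpow ho] at h1
    exact absurd h1 (by decide)

theorem isSquare_zpow_mul (a : Fˣ) {A : ℤ} (h : ¬ (2 : ℤ) ∣ A) : IsSquare ((a ^ (-A) * a : Fˣ) : F) := by
  obtain ⟨m, hm⟩ : ∃ m, A = 2 * m + 1 := by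
    rcases Int.even_or_odd A with he | ⟨m, hm⟩
    · exact absurd (even_iff_two_dvd.1 he) h
    · exact ⟨m, hm⟩
  refine ⟨((a ^ (-m) : Fˣ) : F), ?_⟩
  rw [← Units.val_mul, hm]
  refine congrArg Units.val ?_
  rw [← _root_.zpow_add, ← _root_.zpow_add_one]
  congr 1
  ring

theorem neg_hw_mul {n : GL D.Idx F} {i j : Fin D.rank} {a : Fˣ} (h : Neg Φ n (Φ.p j) a) (lam : Fˣ) :
    Neg Φ (Φ.hw (Φ.p i) lam * n) (Φ.p j) (lam ^ (-Φ.A i (Φ.p j)) * a) := by
  intro t
  rw [Φ.hw_p, show Φ.toAlg.torus (Φ.toAlg.cartanChar i lam) * n * Φ.toAlg.xg (Φ.p j) t *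
    (Φ.toAlg.torus (Φ.toAlg.cartanChar i lam) * n)⁻¹ = Φ.toAlg.torus (Φ.toAlg.cartanChar i lam) *
    (n * Φ.toAlg.xg (Φ.p j) t * n⁻¹) * (Φ.toAlg.torus (Φ.toAlg.cartanChar i lam))⁻¹ by group, h t,
    Φ.toAlg.torus_xg, mul_inv_cancel_right, Φ.toSys.chi_neg, Φ.toAlg.chi_cartanChar, ← _root_.zpow_neg,
    Units.val_mul, mul_assoc]

theorem perm_sq {n : GL D.Idx F} {π : Equiv.Perm (Fin D.nroots)} (hm : Φ.Mono n π) (hsq : n * n = 1) :
    π * π = 1 := by
  have h := Chev.Mono.mul Φ hm hm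
  rw [hsq] at h
  exact Chev.Mono.unique Φ h (Chev.Mono.one Φ)

/-- When all descents are orthogonal fundamental roots, the permutation is the product of their reflections. -/
theorem eq_PW {π : Equiv.Perm (Fin D.nroots)} (hπ : π ∈ Φ.WL) {J : Finset (Fin D.rank)}
    (horth : ∀ i ∈ J, ∀ j ∈ J, i ≠ j → Orth Φ i j) (hJ : ∀ j ∈ J, π (Φ.p j) = (Φ.p j).rev)
    (hpos : ∀ k, k ∉ J → Φ.toTables.Pos (π (Φ.p k))) (hsq : π * π = 1) : π = PW Φ J.toList := by
  classical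
  have hl : J.toList.Pairwise (Orth Φ) := by
    refine (List.Nodup.pairwise_of_forall_ne (Finset.nodup_toList J) fun i hi j hj hij =>
      horth i (Finset.mem_toList.1 hi) j (Finset.mem_toList.1 hj) hij)
  have key : (π * PW Φ J.toList)⁻¹ = 1 := by
    refine Φ.eq_one_of_pos_inv (inv_mem (mul_mem hπ (PW_mem_WL Φ _))) fun k => ?_
    rw [inv_inv, Equiv.Perm.mul_apply]
    by_cases hk : k ∈ J
    · rw [PW_rev Φ hl (Finset.mem_toList.2 hk), Φ.map_rev hπ, hJ k hk, Fin.rev_rev]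
      exact Φ.p_pos k
    · set s := PW Φ J.toList (Φ.p k) with hs
      have hsK : ∀ m, m ∉ J → Φ.V s m = Φ.V (Φ.p k) m := fun m hm =>
        Φ.map_p_of_mem_WK (PW_mem_WK Φ _) (Φ.p k) (fun h => hm (Finset.mem_toList.1 h))
      by_contra hneg
      have hzero : ∀ m, m ∉ J → Φ.V (π (Φ.p k)) m = 0 := by
        intro m hm
        have h1 := Φ.V_nonpos _ hneg m
        have h2 := Φ.V_nonneg _ (hpos k hk) m
        rw [Φ.V_map hπ, Finset.sum_eq_single k] at h1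
        · rw [hsK k hk, Φ.V_p, if_pos rfl, one_mul] at h1
          omega
        · intro i _ hik
          by_cases hi : i ∈ J
          · rw [hJ i hi, Φ.V_neg, Φ.V_p, if_neg (fun e : i = m => hm (e ▸ hi))]
            simp
          · rw [hsK i hi, Φ.V_p, if_neg (Ne.symm hik), zero_mul]
        · simp
      have h3 : π (π (Φ.p k)) = Φ.p k := by
        rw [← Equiv.Perm.mul_apply, hsq]
        rfl
      have h4 := congrArg (fun r => Φ.V r k) h3
      simp only [Φ.V_p, if_true] at h4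
      rw [Φ.V_map hπ, Finset.sum_eq_zero fun i _ => ?_] at h4
      · exact absurd h4 zero_ne_one
      · by_cases hi : i ∈ J
        · rw [hJ i hi, Φ.V_neg, Φ.V_p, if_neg (fun e : i = k => hk (e ▸ hi))]
          simp
        · rw [hzero i hi, zero_mul]
  rw [_root_.inv_eq_one] at key
  calc π = π⁻¹ := (inv_eq_of_mul_eq_one_right hsq).symm
    _ = PW Φ J.toList := inv_eq_of_mul_eq_one_right key

/-- The hypothesis on the Cartan matrix. -/
structure Good : Prop where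
  adj : ∀ i j : Fin D.rank, i ≠ j → (2 : ℤ) ∣ Φ.A i (Φ.p j) → (2 : ℤ) ∣ Φ.A j (Φ.p i) → Φ.A i (Φ.p j) = 0
  par : ∀ J : Finset (Fin D.rank), (∀ k, (2 : ℤ) ∣ ∑ j ∈ J, Φ.A j (Φ.p k)) → J = ∅

/-- The final case: all the coefficients are non-squares and the roots are orthogonal. -/
theorem no_orth_case [Finite F] (h2 : (2 : F) ≠ 0) (hG : Good Φ) {n : GL D.Idx F} (hn : n ∈ D.monomialSubgroup F)
    (hsq : n * n = 1) {π : Equiv.Perm (Fin D.nroots)} (hm : Φ.Mono n π) {J : Finset (Fin D.rank)}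
    (horth : ∀ i ∈ J, ∀ j ∈ J, i ≠ j → Orth Φ i j) (hJ : ∀ j ∈ J, π (Φ.p j) = (Φ.p j).rev)
    (hpos : ∀ k, k ∉ J → Φ.toTables.Pos (π (Φ.p k)))
    (hns : ∀ j ∈ J, ∀ a : Fˣ, Neg Φ n (Φ.p j) a → ¬ IsSquare (a : F)) : J = ∅ := by
  classical
  have hπ := Φ.mem_W_of_mono hn hm
  have hl : J.toList.Pairwise (Orth Φ) := by
    refine (List.Nodup.pairwise_of_forall_ne (Finset.nodup_toList J) fun i hi j hj hij =>
      horth i (Finset.mem_toList.1 hi) j (Finset.mem_toList.1 hj) hij)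
  have e := eq_PW Φ hπ horth hJ hpos (perm_sq Φ hm hsq)
  obtain ⟨c, hc⟩ := Φ.exists_torus_of_mem_H
    (Φ.inv_mul_mem_H (PN_mem_N Φ J.toList) hn (PN_mono Φ J.toList) (e ▸ hm))
  rw [inv_mul_eq_iff_eq_mul] at hc
  have hneg : ∀ j ∈ J, Neg Φ n (Φ.p j) (-c j) := by
    intro j hj t
    rw [hc, show PN Φ F J.toList * Φ.toAlg.torus c * Φ.toAlg.xg (Φ.p j) t * (PN Φ F J.toList * Φ.toAlg.torus c)⁻¹ =
      PN Φ F J.toList * (Φ.toAlg.torus c * Φ.toAlg.xg (Φ.p j) t * (Φ.toAlg.torus c)⁻¹) * (PN Φ F J.toList)⁻¹ by group,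
      Φ.toAlg.torus_xg, mul_inv_cancel_right, Φ.toSys.chi_simple,
      PN_conj_xg Φ _ hl (Finset.mem_toList.2 hj), mul_inv_cancel_right, Units.val_neg, neg_mul]
  have hE : (J.toList.map fun j => Φ.toAlg.cartanChar j (-1 : Fˣ)).prod *
      (c * ((J.toList.map fun j => Φ.toAlg.cartanChar j (c j)).prod)⁻¹) * c = 1 := by
    refine Φ.torus_injective ?_
    rw [map_one, ← hsq, hc, map_mul, map_mul, ← PN_sq Φ hl]
    calc PN Φ F J.toList * PN Φ F J.toList * Φ.toAlg.torus _ * Φ.toAlg.torus c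
        = PN Φ F J.toList * (Φ.toAlg.torus c * PN Φ F J.toList) * Φ.toAlg.torus c := by
          rw [torus_PN Φ hl c]; group
      _ = _ := by group
  refine hG.par J fun k => ?_
  have hk := congrFun hE k
  simp only [Pi.mul_apply, Pi.inv_apply, Pi.one_apply, list_prod_map_toList, Finset.prod_apply,
    Alg.cartanChar] at hk
  refine neg_pow_even h2 J (fun j => (-c j)⁻¹) (fun j => Φ.A j (Φ.p k)) (fun j hj hs => ?_) (c k) ?_
  · exact hns j hj _ (hneg j hj) (by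
      obtain ⟨x, hx⟩ := hs
      exact ⟨x⁻¹, by
        rw [← mul_inv, ← hx]
        simp⟩)
  · have e2 : ∀ j, (-c j)⁻¹ ^ Φ.A j (Φ.p k) =
        (-1 : Fˣ) ^ Φ.A j (Φ.p k) * (c j ^ Φ.A j (Φ.p k))⁻¹ := fun j => by
      rw [← _root_.inv_zpow, ← mul_zpow]
      congr 1
      apply Units.ext
      simp [inv_neg]
    simp only [e2, Finset.prod_mul_distrib, Finset.prod_inv_distrib]
    refine Eq.trans ?_ hk
    ac_rfl

/-- An involution of the monomial subgroup is conjugate into the torus. -/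
theorem exists_cj_mem_H [Finite F] (h2 : (2 : F) ≠ 0) (hG : Good Φ) :
    ∀ {n : GL D.Idx F}, n ∈ D.monomialSubgroup F → n * n = 1 → ∃ h ∈ D.diagonalSubgroup F, Cj D n h := by
  classical
  suffices H : ∀ (m : ℕ) (n : GL D.Idx F) (π : Equiv.Perm (Fin D.nroots)), n ∈ D.monomialSubgroup F →
      n * n = 1 → Φ.Mono n π → Φ.inv π = m → ∃ h ∈ D.diagonalSubgroup F, Cj D n h by
    intro n hn hsq
    obtain ⟨π, -, hm, -⟩ := Φ.exists_mono_W hn
    exact H _ n π hn hsq hm rfl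
  intro m
  induction m using Nat.strong_induction_on with
  | _ m ih =>
    intro n π hn hsq hm hlen
    have hπ := Φ.mem_W_of_mono hn hm
    have hππ := perm_sq Φ hm hsq
    by_cases h1 : π = 1
    · subst h1
      exact ⟨n, Φ.mem_H_of_mono_one hn hm, Cj.rfl'⟩
    by_cases hA : ∃ i, ¬ Φ.toTables.Pos (π (Φ.p i)) ∧ π (Φ.p i) ≠ (Φ.p i).rev
    · obtain ⟨i, hi, hne⟩ := hA
      set s := Φ.nw (Φ.p i) (1 : Fˣ) with hs
      have hsm := Φ.nw_one_mono (F := F) i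
      have hsi : Φ.Mono s⁻¹ (Φ.reflPerm i) := by
        have := Φ.mono_inv (Φ.nw_mem_N (Φ.p i) 1) hsm
        rwa [Φ.reflPerm_inv'] at this
      have hlt : Φ.inv (Φ.reflPerm i * (π * Φ.reflPerm i)) < m := by
        have e1 := Φ.inv_mul_refl_lt hπ hi
        have e2 := Φ.inv_refl_mul_of_neg (mul_mem hπ (Φ.reflPerm_mem_WL i)) i (by
          rw [_root_.mul_inv_rev, Φ.reflPerm_inv', inv_eq_of_mul_eq_one_right hππ]
          show ¬ Φ.toTables.Pos (Φ.refl i (π (Φ.p i)))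
          rw [Φ.pos_refl_iff i (fun e => hi (by rw [e]; exact Φ.p_pos i)) hne]
          exact hi)
        omega
      have hcj : Cj D n (s * n * s⁻¹) := ⟨s, Φ.nw_mem_group _ _, rfl⟩
      obtain ⟨h, hh, hc⟩ := ih _ hlt (s * n * s⁻¹) (Φ.reflPerm i * π * Φ.reflPerm i)
        (mul_mem (mul_mem (Φ.nw_mem_N _ _) hn) (inv_mem (Φ.nw_mem_N _ _))) (hcj.sq hsq)
        (Chev.Mono.mul Φ (Chev.Mono.mul Φ hsm hm) hsi) (by rw [mul_assoc])
      exact ⟨h, hh, hcj.trans hc⟩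
    push Not at hA
    have shorten : ∀ (n' : GL D.Idx F), n' ∈ D.monomialSubgroup F → Cj D n n' → Φ.Mono n' π →
        ∀ (j : Fin D.rank) (a : Fˣ), π (Φ.p j) = (Φ.p j).rev → Neg Φ n' (Φ.p j) a → IsSquare (a : F) →
        ∃ h ∈ D.diagonalSubgroup F, Cj D n h := by
      intro n' hn' hc hm' j a hj ha hsa
      obtain ⟨t, ht⟩ := cj_square Φ h2 (hc.sq hsq) ha hsa
      have hlt : Φ.inv (Φ.reflPerm j * π) < m := by
        have := Φ.inv_refl_mul_of_neg hπ j (by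
          rw [inv_eq_of_mul_eq_one_right hππ, hj, Φ.pos_rev_iff, not_not]
          exact Φ.p_pos j)
        omega
      obtain ⟨h, hh, hc'⟩ := ih _ hlt (Φ.hw (Φ.p j) t * Φ.nw (Φ.p j) 1 * n') (Φ.reflPerm j * π)
        (mul_mem (mul_mem (H_le_N (Φ.hw_mem_H _ _)) (Φ.nw_mem_N _ _)) hn') ((hc.trans ht).sq hsq)
        (Chev.Mono.mul Φ (by
          have := Chev.Mono.mul Φ (Φ.mono_torus (Φ.toAlg.cartanChar j t)) (Φ.nw_one_mono (F := F) j)
          rwa [one_mul, ← Φ.hw_p] at this) hm') rfl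
      exact ⟨h, hh, (hc.trans ht).trans hc'⟩
    set J := Finset.univ.filter fun j => ¬ Φ.toTables.Pos (π (Φ.p j)) with hJdef
    have hJ : ∀ j ∈ J, π (Φ.p j) = (Φ.p j).rev := fun j hj => hA j (Finset.mem_filter.1 hj).2
    by_cases hB : ∃ j ∈ J, ∃ a : Fˣ, Neg Φ n (Φ.p j) a ∧ IsSquare (a : F)
    · obtain ⟨j, hj, a, ha, hsa⟩ := hB
      exact shorten n hn Cj.rfl' hm j a (hJ j hj) ha hsa
    push Not at hB
    by_cases hC : ∃ i ∈ J, ∃ j ∈ J, i ≠ j ∧ ¬ (2 : ℤ) ∣ Φ.A i (Φ.p j)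
    · obtain ⟨i, hi, j, hj, -, hodd⟩ := hC
      obtain ⟨b, hb⟩ := exists_neg Φ hm (hJ i hi)
      obtain ⟨a, ha⟩ := exists_neg Φ hm (hJ j hj)
      refine shorten _ (mul_mem (H_le_N (Φ.hw_mem_H (Φ.p i) a)) hn) (cj_flip Φ h2 hsq hb a) ?_ j _
        (hJ j hj) (neg_hw_mul Φ ha a) (isSquare_zpow_mul a hodd)
      have := Chev.Mono.mul Φ (Φ.mono_torus (Φ.toAlg.cartanChar i a)) hm
      rwa [one_mul, ← Φ.hw_p] at this
    push Not at hC
    have hempty := no_orth_case Φ h2 hG hn hsq hm (J := J)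
      (fun i hi j hj hij => ⟨hij, hG.adj i j hij (hC i hi j hj hij) (hC j hj i hi hij.symm),
        hG.adj j i hij.symm (hC j hj i hi hij.symm) (hC i hi j hj hij)⟩)
      hJ (fun k hk => by simpa [hJdef] using hk) hB
    obtain ⟨i, hi⟩ := Φ.exists_right_descent hπ h1
    have : i ∈ J := Finset.mem_filter.2 ⟨Finset.mem_univ _, hi⟩
    rw [hempty] at this
    exact absurd this (Finset.notMem_empty i)

end CfsgLib.InvTorus
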