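import Cfsg.Agent.Lib.Chev.WeylCentre

/-!
The reflection in an arbitrary root as an element of the Weyl group.
-/

set_option autoImplicit false
set_option linter.dupNamespace false

namespace CfsgLib.InvTorus

open Cfsg.Lie Matrix CfsgLib.Chev CfsgLib.Chev.Chev

variable {D : ChevalleyDatum} (Φ : Chev D)

/-- The value of the coroot of `b` at `r`. -/
def pr (b r : Fin D.nroots) : ℤ := ∑ k, Φ.C b k * Φ.A k r

theorem pr_self (b : Fin D.nroots) : pr Φ b b = 2 := Φ.pair_self b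

theorem pr_refl (i : Fin D.rank) (b r : Fin D.nroots) : pr Φ b (Φ.refl i r) = pr Φ (Φ.refl i b) r := by
  simp only [pr, Φ.A_refl, Φ.C_refl, mul_sub, sub_mul, Finset.sum_sub_distrib, ite_mul, zero_mul,
    Finset.sum_ite_eq', Finset.mem_univ, if_true, Finset.sum_mul]
  congr 1
  exact Finset.sum_congr rfl fun k _ => by ring

theorem pr_map {π : Equiv.Perm (Fin D.nroots)} (hπ : π ∈ Φ.WL) (b r : Fin D.nroots) :
    pr Φ (π b) (π r) = pr Φ b r := by
  induction hπ using Subgroup.closure_induction generalizing b r with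
  | mem x hx =>
    obtain ⟨i, -, rfl⟩ := hx
    show pr Φ (Φ.refl i b) (Φ.refl i r) = _
    rw [pr_refl, Φ.refl_refl]
  | one => rfl
  | mul x y _ _ hx hy => rw [Equiv.Perm.mul_apply, Equiv.Perm.mul_apply, hx, hy]
  | inv x _ hx =>
    conv_rhs => rw [← x.apply_symm_apply b, ← x.apply_symm_apply r]
    exact (hx _ _).symm

theorem exists_rootRefl (b : Fin D.nroots) : ∃ π ∈ Φ.WL,
    ∀ r j, Φ.V (π r) j = Φ.V r j - pr Φ b r * Φ.V b j := by
  induction b using Φ.root_induction with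
  | hp i =>
    refine ⟨Φ.reflPerm i, Φ.reflPerm_mem_WL i, fun r j => ?_⟩
    show Φ.V (Φ.refl i r) j = _
    simp [Φ.V_refl, pr, Φ.C_p, Φ.V_p, mul_ite, eq_comm]
  | hstep i b ih =>
    obtain ⟨π, hπ, h⟩ := ih
    refine ⟨Φ.reflPerm i * π * Φ.reflPerm i, mul_mem (mul_mem (Φ.reflPerm_mem_WL i) hπ) (Φ.reflPerm_mem_WL i),
      fun r j => ?_⟩
    show Φ.V (Φ.refl i (π (Φ.refl i r))) j = _
    have hA : Φ.A i (π (Φ.refl i r)) = -Φ.A i r - pr Φ b (Φ.refl i r) * Φ.A i b := by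
      rw [Φ.A_lin i (π _)]
      simp only [h, sub_mul, Finset.sum_sub_distrib, mul_assoc, ← Finset.mul_sum]
      rw [← Φ.A_lin i (Φ.refl i r), ← Φ.A_lin i b, Φ.A_refl, Φ.A_pp]
      ring
    rw [Φ.V_refl, h, hA, ← pr_refl, Φ.V_refl, Φ.V_refl]
    split_ifs <;> ring

/-- The reflection in a root. -/
noncomputable def rootRefl (b : Fin D.nroots) : Equiv.Perm (Fin D.nroots) := (exists_rootRefl Φ b).choose

theorem rootRefl_mem (b : Fin D.nroots) : rootRefl Φ b ∈ Φ.WL := (exists_rootRefl Φ b).choose_spec.1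

theorem V_rootRefl (b r : Fin D.nroots) (j : Fin D.rank) :
    Φ.V (rootRefl Φ b r) j = Φ.V r j - pr Φ b r * Φ.V b j := (exists_rootRefl Φ b).choose_spec.2 r j

theorem rootRefl_self (b : Fin D.nroots) : rootRefl Φ b b = b.rev :=
  Φ.toSys.V_inj fun j => by rw [V_rootRefl, pr_self, Φ.V_neg]; ring

theorem rootRefl_rev (b : Fin D.nroots) : rootRefl Φ b b.rev = b := by
  rw [Φ.map_rev (rootRefl_mem Φ b), rootRefl_self, Fin.rev_rev]

theorem pr_rootRefl (b r : Fin D.nroots) : pr Φ b (rootRefl Φ b r) = -pr Φ b r := by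
  have hA : ∀ k, Φ.A k (rootRefl Φ b r) = Φ.A k r - pr Φ b r * Φ.A k b := fun k => by
    rw [Φ.A_lin k (rootRefl Φ b r)]
    simp only [V_rootRefl, sub_mul, Finset.sum_sub_distrib, mul_assoc, ← Finset.mul_sum]
    rw [← Φ.A_lin k r, ← Φ.A_lin k b]
  show ∑ k, Φ.C b k * Φ.A k (rootRefl Φ b r) = _
  simp only [hA, mul_sub, Finset.sum_sub_distrib, mul_left_comm _ (pr Φ b r), ← Finset.mul_sum]
  rw [show ∑ k, Φ.C b k * Φ.A k b = 2 from pr_self Φ b]
  show pr Φ b r - _ = _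
  ring

theorem rootRefl_mul_self (b : Fin D.nroots) : rootRefl Φ b * rootRefl Φ b = 1 :=
  Equiv.ext fun r => Φ.toSys.V_inj fun j => by
    rw [Equiv.Perm.mul_apply, V_rootRefl, V_rootRefl, pr_rootRefl, Equiv.Perm.one_apply]
    ring

theorem rootRefl_inv (b : Fin D.nroots) : (rootRefl Φ b)⁻¹ = rootRefl Φ b :=
  inv_eq_of_mul_eq_one_right (rootRefl_mul_self Φ b)

/-- Elements of the Weyl group conjugate reflections to reflections. -/
theorem rootRefl_conj {π : Equiv.Perm (Fin D.nroots)} (hπ : π ∈ Φ.WL) (b : Fin D.nroots) :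
    π * rootRefl Φ b = rootRefl Φ (π b) * π :=
  Equiv.ext fun r => Φ.toSys.V_inj fun j => by
    rw [Equiv.Perm.mul_apply, Equiv.Perm.mul_apply, Φ.V_map hπ, V_rootRefl, pr_map Φ hπ]
    simp only [V_rootRefl, sub_mul, Finset.sum_sub_distrib, mul_assoc, ← Finset.mul_sum]
    rw [← Φ.V_map hπ, ← Φ.V_map hπ]

end CfsgLib.InvTorus
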