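import Cfsg.Agent.Lib.InvTorus.SubPoincare
import Cfsg.Agent.Lib.InvTorus.Count
import Cfsg.Agent.Lib.InvTorus.Apartment
import Cfsg.Agent.Lib.Chev.Poincare

/-!
The stabiliser of a sign vector in the Weyl group and the centralizer of the corresponding torus element.
-/

set_option autoImplicit false
set_option linter.dupNamespace false
set_option linter.unusedSectionVars false

namespace CfsgLib.InvTorus

open Cfsg.Lie Matrix CfsgLib.Chev CfsgLib.Chev.Chev

/-- The reflection on vectors modulo two. -/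
def step2 {l : ℕ} (M : Fin l → Fin l → ℤ) (i : Fin l) (c : List ℤ) : List ℤ :=
  (Cert.step M i c).map fun x => x % 2

/-- A list of vectors each reached from the first one by reflections modulo two. -/
def orbOK {l : ℕ} (M : Fin l → Fin l → ℤ) (v : List ℤ) (L : Cert.Orbit) : Bool :=
  decide (L.map Prod.fst).Nodup && L.all fun e =>
    ((e.2 == 0) && (e.1 == v)) ||
      L.any fun e' => (e'.2 + 1 == e.2) && (List.finRange l).any fun i => step2 M i e'.1 == e.1

theorem orbOK_induction {l : ℕ} {M : Fin l → Fin l → ℤ} {v : List ℤ} {L : Cert.Orbit}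
    (h : orbOK M v L = true) {Q : List ℤ → Prop} (h0 : Q v) (hs : ∀ i c, Q c → Q (step2 M i c)) :
    ∀ c ∈ L.map Prod.fst, Q c := by
  simp only [orbOK, Bool.and_eq_true, decide_eq_true_eq, List.all_eq_true, Bool.or_eq_true, beq_iff_eq,
    List.any_eq_true, List.mem_finRange, true_and] at h
  suffices H : ∀ d, ∀ e ∈ L, e.2 = d → Q e.1 by
    intro c hc
    obtain ⟨e, he, rfl⟩ := List.mem_map.1 hc
    exact H _ e he rfl
  intro d
  induction d using Nat.strong_induction_on with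
  | _ d ih =>
    intro e he hd
    rcases h.2 e he with ⟨-, hv⟩ | ⟨e', he', hd', i, hi⟩
    · rw [hv]; exact h0
    · rw [← hi]
      exact hs i _ (ih e'.2 (by omega) e' he' rfl)

variable {D : ChevalleyDatum} (Φ : Chev D) {F : Type*} [Field F]

/-- The signs of a vector. -/
def sgn (F : Type*) [Field F] (e : Fin D.rank → ℤ) : Fin D.rank → Fˣ := fun i => (-1) ^ e i

theorem chi_sgn (e : Fin D.rank → ℤ) (r : Fin D.nroots) :
    Φ.toSys.chi (sgn F e) r = (-1 : Fˣ) ^ ∑ i, e i * Φ.V r i := by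
  simp only [Sys.chi, sgn, ← _root_.zpow_mul]
  induction (Finset.univ : Finset (Fin D.rank)) using Finset.induction_on with
  | empty => simp
  | insert j s hj ih => rw [Finset.prod_insert hj, Finset.sum_insert hj, ih, _root_.zpow_add]

theorem neg_one_ne_one (h2 : (2 : F) ≠ 0) : (-1 : Fˣ) ≠ 1 := fun h => h2 (by
  have := congrArg Units.val h
  simp at this
  linear_combination -this)

theorem chi_sgn_eq_iff (h2 : (2 : F) ≠ 0) (e : Fin D.rank → ℤ) (r s : Fin D.nroots) :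
    Φ.toSys.chi (sgn F e) r = Φ.toSys.chi (sgn F e) s ↔ (Ev Φ e r ↔ Ev Φ e s) := by
  rw [chi_sgn, chi_sgn]
  simp only [Ev, ← even_iff_two_dvd]
  have hne := neg_one_ne_one (F := F) h2
  rcases Int.even_or_odd (∑ i, e i * Φ.V r i) with a | a <;>
    rcases Int.even_or_odd (∑ i, e i * Φ.V s i) with b | b <;>
    simp [a.neg_one_zpow, b.neg_one_zpow, a, b, hne, hne.symm, Int.not_even_iff_odd, ← Int.not_odd_iff_even]

theorem chi_sgn_one_iff (h2 : (2 : F) ≠ 0) (e : Fin D.rank → ℤ) (r : Fin D.nroots) :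
    Φ.toSys.chi (sgn F e) r = 1 ↔ Ev Φ e r := by
  rw [chi_sgn]
  simp only [Ev, ← even_iff_two_dvd]
  have hne := neg_one_ne_one (F := F) h2
  rcases Int.even_or_odd (∑ i, e i * Φ.V r i) with a | a <;>
    simp [a.neg_one_zpow, a, hne, Int.not_even_iff_odd]

/-- The stabiliser of the levels in the Weyl group. -/
noncomputable def stabE (e : Fin D.rank → ℤ) : Finset (Equiv.Perm (Fin D.nroots)) :=
  letI := Classical.decPred fun π : Equiv.Perm (Fin D.nroots) => π ∈ Φ.WL ∧ ∀ r, (Ev Φ e (π r) ↔ Ev Φ e r)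
  Finset.univ.filter fun π => π ∈ Φ.WL ∧ ∀ r, (Ev Φ e (π r) ↔ Ev Φ e r)

theorem mem_stabE {e : Fin D.rank → ℤ} {π : Equiv.Perm (Fin D.nroots)} :
    π ∈ stabE Φ e ↔ π ∈ Φ.WL ∧ ∀ r, (Ev Φ e (π r) ↔ Ev Φ e r) := by
  simp [stabE]

/-- The levels of the images of the fundamental roots, modulo two. -/
def pv (e : Fin D.rank → ℤ) (π : Equiv.Perm (Fin D.nroots)) : List ℤ :=
  List.ofFn fun j => (∑ i, e i * Φ.V (π⁻¹ (Φ.p j)) i) % 2

theorem pv_one (e : Fin D.rank → ℤ) : pv Φ e 1 = List.ofFn fun j => e j % 2 := by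
  refine congrArg List.ofFn (funext fun j => ?_)
  rw [_root_.inv_one, Equiv.Perm.one_apply]
  simp [Φ.V_p]

theorem pv_refl_mul (e : Fin D.rank → ℤ) {π : Equiv.Perm (Fin D.nroots)} (hπ : π ∈ Φ.WL) (i : Fin D.rank) :
    pv Φ e (Φ.reflPerm i * π) = step2 (fun a b => Φ.A a (Φ.p b)) i (pv Φ e π) := by
  simp only [pv, step2, Cert.step, List.map_ofFn, Cert.get_ofFn]
  refine congrArg List.ofFn (funext fun j => ?_)
  simp only [Function.comp]
  have hV : ∀ k, Φ.V (π⁻¹ (Φ.refl i (Φ.p j))) k =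
      Φ.V (π⁻¹ (Φ.p j)) k - Φ.A i (Φ.p j) * Φ.V (π⁻¹ (Φ.p i)) k := by
    intro k
    rw [Φ.V_map (inv_mem hπ)]
    simp [Φ.V_refl, Φ.V_p, sub_mul, Finset.sum_sub_distrib, ite_mul]
  rw [_root_.mul_inv_rev, Φ.reflPerm_inv', Equiv.Perm.mul_apply]
  show (∑ k, e k * Φ.V (π⁻¹ (Φ.refl i (Φ.p j))) k) % 2 = _
  simp only [hV, mul_sub, Finset.sum_sub_distrib, mul_left_comm _ (Φ.A i (Φ.p j)), ← Finset.mul_sum]
  simp [Int.sub_emod, Int.mul_emod]

theorem stabE_card_le (e : Fin D.rank → ℤ) {M : Fin D.rank → Fin D.rank → ℤ}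
    (hM : ∀ a b, Φ.A a (Φ.p b) = M a b) {v : List ℤ} (hv : v = List.ofFn fun j => e j % 2)
    {L : Cert.Orbit} (hL : orbOK M v L = true) :
    L.length * (stabE Φ e).card ≤ Φ.WFin.card := by
  classical
  have hM' : (fun a b => Φ.A a (Φ.p b)) = M := funext fun a => funext fun b => hM a b
  have hreach : ∀ c ∈ L.map Prod.fst, ∃ π ∈ Φ.WL, pv Φ e π = c :=
    orbOK_induction hL ⟨1, one_mem _, by rw [pv_one, hv]⟩ fun i c ⟨π, hπ, hc⟩ =>
      ⟨Φ.reflPerm i * π, mul_mem (Φ.reflPerm_mem_WL i) hπ, by rw [pv_refl_mul Φ e hπ, hM', hc]⟩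
  have hnd : (L.map Prod.fst).Nodup := by
    simp only [orbOK, Bool.and_eq_true, decide_eq_true_eq] at hL
    exact hL.1
  have hfib : ∀ c ∈ (L.map Prod.fst).toFinset,
      (stabE Φ e).card ≤ (Φ.WFin.filter fun π => pv Φ e π = c).card := by
    intro c hc
    obtain ⟨π0, hπ0, hc0⟩ := hreach c (List.mem_toFinset.1 hc)
    refine Finset.card_le_card_of_injOn (fun σ => π0 * σ) (fun σ hσ => ?_) (fun a _ b _ h => mul_left_cancel h)
    obtain ⟨hσW, hσ⟩ := (mem_stabE Φ).1 hσ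
    refine Finset.mem_coe.2 (Finset.mem_filter.2 ⟨Φ.mem_WFin.2 (mul_mem hπ0 hσW), ?_⟩)
    rw [← hc0]
    refine congrArg List.ofFn (funext fun j => ?_)
    rw [_root_.mul_inv_rev, Equiv.Perm.mul_apply]
    have h1 := hσ (σ⁻¹ (π0⁻¹ (Φ.p j)))
    rw [show σ (σ⁻¹ (π0⁻¹ (Φ.p j))) = π0⁻¹ (Φ.p j) from σ.apply_symm_apply _] at h1
    simp only [Ev] at h1
    omega
  have h1 : ∑ c ∈ (L.map Prod.fst).toFinset, (Φ.WFin.filter fun π => pv Φ e π = c).card ≤ Φ.WFin.card := by
    rw [← Finset.card_biUnion (fun a _ b _ hab => Finset.disjoint_left.2 fun π ha hb =>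
      hab ((Finset.mem_filter.1 ha).2.symm.trans (Finset.mem_filter.1 hb).2))]
    exact Finset.card_le_card (Finset.biUnion_subset.2 fun c _ => Finset.filter_subset _ _)
  refine le_trans ?_ h1
  refine le_trans ?_ (Finset.card_nsmul_le_sum _ _ _ hfib)
  rw [List.toFinset_card_of_nodup hnd, List.length_map, smul_eq_mul]

namespace SubData

variable {Φ} {e : Fin D.rank → ℤ} {l : ℕ} (S : SubData Φ e l)

theorem WSFin_subset : S.WSFin (List.finRange l) ⊆ stabE Φ e := fun π hπ => by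
  rw [S.mem_WSFin] at hπ
  exact (mem_stabE Φ).2 ⟨S.WS_le_WL _ hπ, S.ev_map hπ⟩

/-- The stabiliser is the reflection subgroup, from the orbit count. -/
theorem stabE_eq {M : Fin D.rank → Fin D.rank → ℤ} (hM : ∀ a b, Φ.A a (Φ.p b) = M a b) {v : List ℤ}
    (hv : v = List.ofFn fun j => e j % 2) {L : Cert.Orbit} (hL : orbOK M v L = true) (hL0 : 0 < L.length)
    (hcard : Φ.WFin.card ≤ L.length * (S.WSFin (List.finRange l)).card) :
    stabE Φ e = S.WSFin (List.finRange l) :=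
  (Finset.eq_of_subset_of_card_le S.WSFin_subset
    (Nat.le_of_mul_le_mul_left ((stabE_card_le Φ e hM hv hL).trans hcard) hL0)).symm

end SubData

/-- The number of positive roots of even level. -/
noncomputable def posEv (e : Fin D.rank → ℤ) : Finset (Fin D.nroots) :=
  letI := Classical.decPred fun r => Φ.toTables.Pos r ∧ Ev Φ e r
  Finset.univ.filter fun r => Φ.toTables.Pos r ∧ Ev Φ e r

theorem mem_posEv {e : Fin D.rank → ℤ} {r : Fin D.nroots} :
    r ∈ posEv Φ e ↔ Φ.toTables.Pos r ∧ Ev Φ e r := by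
  simp [posEv]

theorem card_centG_sgn [Finite F] (h2 : (2 : F) ≠ 0) {e : Fin D.rank → ℤ} {l : ℕ} (S : SubData Φ e l)
    (hS : stabE Φ e = S.WSFin (List.finRange l))
    (hH : Φ.toAlg.torus (sgn F e) ∈ D.diagonalSubgroup F) :
    Nat.card (centG D (Φ.toAlg.torus (sgn F e))) = Nat.card F ^ (posEv Φ e).card *
      Nat.card (D.diagonalSubgroup F) * ∑ π ∈ S.WSFin (List.finRange l), Nat.card F ^ S.invS π := by
  classical
  rw [card_centG Φ hH]
  have h1 : posOne Φ (sgn F e) = posEv Φ e := by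
    ext r
    simp [posOne, mem_posEv, chi_sgn_one_iff Φ h2]
  have h3 : stabFin Φ (sgn F e) = stabE Φ e := by
    ext π
    simp [mem_stabFin, mem_stabE, chi_sgn_eq_iff Φ h2]
  have h4 : ∀ π, negOne' Φ (sgn F e) π = S.invSetS π := fun π => by
    ext r
    simp [negOne', SubData.mem_invSetS, chi_sgn_one_iff Φ h2]
  rw [h1, h3, hS]
  simp only [h4, SubData.invS]

theorem card_centralizer_eq (x : ↥(D.group F)) :
    Nat.card (Subgroup.centralizer ({x} : Set ↥(D.group F))) = Nat.card (centG D (x : GL D.Idx F)) := by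
  refine Nat.card_congr
    { toFun := fun g => ⟨g.1.1, mem_centG.2 ⟨g.1.2,
        (congrArg Subtype.val (Subgroup.mem_centralizer_singleton_iff.1 g.2)).symm⟩⟩
      invFun := fun g => ⟨⟨g.1, (mem_centG.1 g.2).1⟩,
        Subgroup.mem_centralizer_singleton_iff.2 (Subtype.ext (mem_centG.1 g.2).2.eq.symm)⟩
      left_inv := fun g => rfl
      right_inv := fun g => rfl }

/-- Reflections act on the signs by the reflection modulo two. -/
theorem cj_sgn_step (i : Fin D.rank) {M : Fin D.rank → Fin D.rank → ℤ} (hM : ∀ a b, Φ.A a (Φ.p b) = M a b)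
    (c : List ℤ) : Cj D (Φ.toAlg.torus (sgn F (Cert.get c))) (Φ.toAlg.torus (sgn F (Cert.get (step2 M i c)))) := by
  refine ⟨(Φ.nw (Φ.p i) 1)⁻¹, inv_mem (Φ.nw_mem_group _ _), ?_⟩
  rw [inv_inv, mul_assoc, Φ.torus_nw_one, inv_mul_cancel_left]
  refine congrArg Φ.toAlg.torus (funext fun j => ?_)
  show (-1 : Fˣ) ^ Cert.get c j * (((-1 : Fˣ) ^ Cert.get c i) ^ Φ.A i (Φ.p j))⁻¹ = _
  rw [hM, ← _root_.zpow_mul, ← _root_.zpow_neg, ← _root_.zpow_add]
  have hget : Cert.get (step2 M i c) j = (Cert.get c j - M i j * Cert.get c i) % 2 := by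
    simp [step2, Cert.step, List.map_ofFn, Cert.get_ofFn]
  show _ = (-1 : Fˣ) ^ Cert.get (step2 M i c) j
  rw [hget]
  set a := Cert.get c j - M i j * Cert.get c i
  rw [show Cert.get c j + -(Cert.get c i * M i j) = a by simp only [a]; ring]
  rcases Int.even_or_odd a with h | h
  · rw [h.neg_one_zpow, Int.even_iff.1 h, zpow_zero]
  · rw [h.neg_one_zpow, Int.odd_iff.1 h, zpow_one]

theorem cj_sgn_orbit {M : Fin D.rank → Fin D.rank → ℤ} (hM : ∀ a b, Φ.A a (Φ.p b) = M a b) {v : List ℤ}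
    {L : Cert.Orbit} (hL : orbOK M v L = true) {c : List ℤ} (hc : c ∈ L.map Prod.fst) :
    Cj D (Φ.toAlg.torus (sgn F (Cert.get v))) (Φ.toAlg.torus (sgn F (Cert.get c))) :=
  orbOK_induction hL (Q := fun c => Cj D (Φ.toAlg.torus (sgn F (Cert.get v))) (Φ.toAlg.torus (sgn F (Cert.get c))))
    Cj.rfl' (fun i c h => h.trans (cj_sgn_step Φ i hM c)) c hc

end CfsgLib.InvTorus
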