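import Cfsg.Agent.Lib.InvTorus.SubSystem
import Cfsg.Agent.Lib.Chev.Poincare

/-!
The Poincaré polynomial of the reflection subgroup from a certificate.
-/

set_option autoImplicit false
set_option linter.dupNamespace false
set_option linter.unusedSectionVars false

namespace CfsgLib.InvTorus

open Cfsg.Lie Matrix CfsgLib.Chev CfsgLib.Chev.Chev

variable {D : ChevalleyDatum} {Φ : Chev D} {e : Fin D.rank → ℤ} {l : ℕ}

namespace SubData

variable (S : SubData Φ e l)

/-- The image of a coweight of the base. -/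
noncomputable def orbS (π : Equiv.Perm (Fin D.nroots)) (k : Fin l) : List ℤ :=
  List.ofFn fun j => S.g (π⁻¹ (S.β j)) k

theorem orbS_one (k : Fin l) : S.orbS 1 k = Cert.unit k := by
  refine congrArg List.ofFn (funext fun j => ?_)
  rw [_root_.inv_one, Equiv.Perm.one_apply, S.g_beta]

theorem orbS_sg_mul {π : Equiv.Perm (Fin D.nroots)} (hπ : π ∈ S.WS Set.univ) (i k : Fin l) :
    S.orbS (S.sg i * π) k = Cert.step (fun a b => pr Φ (S.β a) (S.β b)) i (S.orbS π k) := by
  refine congrArg List.ofFn (funext fun j => ?_)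
  simp only [orbS, Cert.get_ofFn]
  rw [_root_.mul_inv_rev, S.sg_inv, Equiv.Perm.mul_apply,
    S.g_map (inv_mem (S.WS_le_WL _ hπ)) (S.ev_map (Subgroup.inv_mem _ hπ)) ((S.ev_sg i _).2 (S.β_ev j))]
  simp only [S.g_sg i (S.β_ev j), S.g_beta, sub_mul, Finset.sum_sub_distrib, mul_assoc, ite_mul, one_mul,
    zero_mul, mul_ite, mul_zero, Finset.sum_ite_eq, Finset.mem_univ, if_true]

theorem invS_sg_of_orbS {π : Equiv.Perm (Fin D.nroots)} (hπ : π ∈ S.WS Set.univ) {i k : Fin l}
    (h : Cert.get (S.orbS π k) i < 0) : S.invS π = S.invS (S.sg i * π) + 1 := by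
  refine S.invS_of_neg hπ i fun hp => ?_
  have := S.nonneg _ hp ((S.ev_map (Subgroup.inv_mem _ hπ) _).2 (S.β_ev i)) k
  simp only [orbS, Cert.get_ofFn, g] at h
  omega

/-- The elements of a parabolic subgroup of the base. -/
noncomputable def WSFin (K : List (Fin l)) : Finset (Equiv.Perm (Fin D.nroots)) :=
  letI := Classical.decPred (· ∈ S.WS {i | i ∈ K})
  Finset.univ.filter (· ∈ S.WS {i | i ∈ K})

theorem mem_WSFin {K : List (Fin l)} {π : Equiv.Perm (Fin D.nroots)} :
    π ∈ S.WSFin K ↔ π ∈ S.WS {i | i ∈ K} := by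
  simp [WSFin]

theorem mem_univ_of_mem {K : Set (Fin l)} {π : Equiv.Perm (Fin D.nroots)} (h : π ∈ S.WS K) :
    π ∈ S.WS Set.univ := S.WS_mono (Set.subset_univ K) h

theorem mem_WS_of_orbS {K : List (Fin l)} {k : Fin l} :
    ∀ {π : Equiv.Perm (Fin D.nroots)}, π ∈ S.WS {i | i ∈ K} → S.orbS π k = Cert.unit k →
      π ∈ S.WS {i | i ∈ K ∧ i ≠ k} := by
  intro π
  induction h : S.invS π using Nat.strong_induction_on generalizing π with
  | _ m ih =>
    intro hπ hv
    by_cases h1 : π = 1
    · rw [h1]; exact one_mem _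
    obtain ⟨i, hi⟩ := S.exists_neg_base hπ h1
    have hev : ∀ j, Ev Φ e (π⁻¹ (S.β j)) := fun j => (S.ev_map (Subgroup.inv_mem _ hπ) _).2 (S.β_ev j)
    have hget : ∀ j, S.g (π⁻¹ (S.β j)) k = if j = k then 1 else 0 := fun j => by
      have := congrArg (fun c => Cert.get c j) hv
      simpa [orbS, Cert.unit, Cert.get_ofFn] using this
    have hik : i ≠ k := by
      rintro rfl
      have := S.g_nonpos hi (hev i) i
      rw [hget i, if_pos rfl] at this
      omega
    have hiK : i ∈ K := by
      by_contra hiK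
      have := S.g_nonpos hi (hev i) i
      rw [S.map_of_not_mem (Subgroup.inv_mem _ hπ) (S.β_ev i) (n := i) hiK, S.g_beta, if_pos rfl] at this
      omega
    have hm : S.sg i ∈ S.WS {i | i ∈ K ∧ i ≠ k} := S.sg_mem ⟨hiK, hik⟩
    have hlt : S.invS (S.sg i * π) < m := by
      have := S.invS_of_neg (S.mem_univ_of_mem hπ) i hi
      omega
    have hrec := ih _ hlt rfl (mul_mem (S.sg_mem (K := {i | i ∈ K}) hiK) hπ) (by
      rw [S.orbS_sg_mul (S.mem_univ_of_mem hπ), hv]
      refine congrArg List.ofFn (funext fun j => ?_)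
      simp [Cert.unit, Cert.get_ofFn, hik])
    have := mul_mem hm hrec
    rwa [← mul_assoc, S.sg_mul_self, one_mul] at this

theorem orbS_of_mem {K : List (Fin l)} {k : Fin l} {π : Equiv.Perm (Fin D.nroots)}
    (hπ : π ∈ S.WS {i | i ∈ K ∧ i ≠ k}) : S.orbS π k = Cert.unit k := by
  refine congrArg List.ofFn (funext fun j => ?_)
  rw [S.map_of_not_mem (Subgroup.inv_mem _ hπ) (S.β_ev j) (n := k) (fun h => h.2 rfl), S.g_beta]

theorem WS_filter (K : List (Fin l)) (k : Fin l) :
    S.WS {i | i ∈ K.filter fun i => decide (i ≠ k)} = S.WS {i | i ∈ K ∧ i ≠ k} := by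
  congr 1; ext i; simp

theorem sum_WSFin_level {M : Fin l → Fin l → ℤ} (hM : ∀ a b, pr Φ (S.β a) (S.β b) = M a b)
    {K : List (Fin l)} {k : Fin l} {L : Cert.Orbit} (h : Cert.levelOK M K k L = true) (q : ℕ) :
    ∑ π ∈ S.WSFin K, q ^ S.invS π =
      Cert.evalP q (Cert.levelP L) *
        ∑ π ∈ S.WSFin (K.filter fun i => decide (i ≠ k)), q ^ S.invS π := by
  classical
  have hM' : (fun a b => pr Φ (S.β a) (S.β b)) = M := funext fun a => funext fun b => hM a b
  simp only [Cert.levelOK, Bool.and_eq_true, List.all_eq_true, decide_eq_true_eq,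
    List.contains_iff_mem, Bool.or_eq_true, beq_iff_eq, List.any_eq_true] at h
  obtain ⟨⟨hunit, hnd⟩, hall⟩ := h
  have hlen : ∀ e ∈ L, e.1.length = l := fun e he => (hall e he).1.1
  have hstep : ∀ e ∈ L, ∀ i ∈ K, Cert.get e.1 i < 0 →
      0 < e.2 ∧ (Cert.step M i e.1, e.2 - 1) ∈ L := fun e he i hi hneg => by
    have := (hall e he).1.2 i hi
    rw [if_pos hneg] at this
    simpa [Bool.and_eq_true, List.contains_iff_mem] using this
  have hclosed : ∀ e ∈ L, ∀ i ∈ K, Cert.step M i e.1 ∈ L.map Prod.fst := fun e he i hi => by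
    by_cases hneg : Cert.get e.1 i < 0
    · exact List.mem_map.2 ⟨_, (hstep e he i hi hneg).2, rfl⟩
    · have := (hall e he).1.2 i hi
      rw [if_neg hneg] at this
      simpa [List.contains_iff_mem] using this
  have hmem : ∀ π ∈ S.WSFin K, S.orbS π k ∈ L.map Prod.fst := by
    intro π hπ
    rw [S.mem_WSFin] at hπ
    induction hπ using Subgroup.closure_induction_left with
    | one => rw [S.orbS_one]; exact List.mem_map.2 ⟨_, hunit, rfl⟩
    | mul_left x hx y hy ih =>
      obtain ⟨i, hi, rfl⟩ := hx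
      obtain ⟨e, he, he'⟩ := List.mem_map.1 ih
      rw [S.orbS_sg_mul (S.mem_univ_of_mem hy), hM', ← he']
      exact hclosed e he i hi
    | inv_mul_cancel x hx y hy ih =>
      obtain ⟨i, hi, rfl⟩ := hx
      obtain ⟨e, he, he'⟩ := List.mem_map.1 ih
      rw [S.sg_inv, S.orbS_sg_mul (S.mem_univ_of_mem hy), hM', ← he']
      exact hclosed e he i hi
  set T : List ℤ → ℕ := fun c => ∑ π ∈ (S.WSFin K).filter (fun π => S.orbS π k = c), q ^ S.invS π with hT
  set J := K.filter fun i => decide (i ≠ k) with hJ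
  have hbase : T (Cert.unit k) = ∑ π ∈ S.WSFin J, q ^ S.invS π := by
    refine Finset.sum_congr (Finset.ext fun π => ?_) fun _ _ => rfl
    rw [Finset.mem_filter, S.mem_WSFin, S.mem_WSFin, hJ, S.WS_filter]
    exact ⟨fun ⟨a, b⟩ => S.mem_WS_of_orbS a b,
      fun a => ⟨S.WS_mono (fun i hi => hi.1) a, S.orbS_of_mem a⟩⟩
  have hfib : ∀ d, ∀ e ∈ L, e.2 = d → T e.1 = q ^ d * T (Cert.unit k) := by
    intro d
    induction d using Nat.strong_induction_on with
    | _ d ih =>
      intro e he hd
      rcases (hall e he).2 with hu | ⟨i, hi, hneg⟩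
      · obtain rfl : e = (Cert.unit k, 0) := List.inj_on_of_nodup_map hnd he hunit hu
        simp at hd
        simp [← hd]
      · obtain ⟨hpos, hnext⟩ := hstep e he i hi hneg
        have hrec := ih (e.2 - 1) (by omega) _ hnext rfl
        have hbij : T e.1 = q * T (Cert.step M i e.1) := by
          simp only [hT]
          rw [Finset.mul_sum]
          refine Finset.sum_nbij' (fun π => S.sg i * π) (fun π => S.sg i * π) ?_ ?_ ?_ ?_ ?_
          · intro π hπ
            simp only [Finset.mem_coe, Finset.mem_filter, S.mem_WSFin] at hπ ⊢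
            exact ⟨mul_mem (S.sg_mem (K := {i | i ∈ K}) hi) hπ.1, by
              rw [S.orbS_sg_mul (S.mem_univ_of_mem hπ.1), hM', hπ.2]⟩
          · intro π hπ
            simp only [Finset.mem_coe, Finset.mem_filter, S.mem_WSFin] at hπ ⊢
            refine ⟨mul_mem (S.sg_mem (K := {i | i ∈ K}) hi) hπ.1, ?_⟩
            rw [S.orbS_sg_mul (S.mem_univ_of_mem hπ.1), hM', hπ.2]
            exact Cert.step_step (by rw [← hM, pr_self]) (hlen e he)
          · intro π _; show S.sg i * (S.sg i * π) = π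
            rw [← mul_assoc, S.sg_mul_self, one_mul]
          · intro π _; show S.sg i * (S.sg i * π) = π
            rw [← mul_assoc, S.sg_mul_self, one_mul]
          · intro π hπ
            simp only [Finset.mem_filter, S.mem_WSFin] at hπ
            rw [S.invS_sg_of_orbS (S.mem_univ_of_mem hπ.1) (by rw [hπ.2]; exact hneg), pow_succ,
              mul_comm]
        rw [hbij, hrec, ← mul_assoc, ← pow_succ', ← hd, Nat.sub_add_cancel hpos]
  rw [← Finset.sum_fiberwise_of_maps_to (g := fun π => S.orbS π k) (t := (L.map Prod.fst).toFinset)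
    (fun π hπ => List.mem_toFinset.2 (hmem π hπ)), List.sum_toFinset _ hnd, List.map_map,
    Cert.evalP_levelP, ← List.sum_map_mul_right, ← hbase]
  exact congrArg List.sum (List.map_congr_left fun e he => hfib e.2 e he rfl)

theorem sum_WSFin_nil (q : ℕ) : ∑ π ∈ S.WSFin ([] : List (Fin l)), q ^ S.invS π = 1 := by
  have : S.WSFin ([] : List (Fin l)) = {1} := by
    ext π
    simp [S.mem_WSFin, WS]
  simp [this, S.invS_one]

theorem sum_WSFin_chain {M : Fin l → Fin l → ℤ} (hM : ∀ a b, pr Φ (S.β a) (S.β b) = M a b) :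
    ∀ (C : List (Fin l × Cert.Orbit)) (K : List (Fin l)),
      Cert.chainOK M K C = true → ∀ q : ℕ,
      ∑ π ∈ S.WSFin K, q ^ S.invS π = Cert.evalP q (Cert.chainP C)
  | [], K, h, q => by
    obtain rfl : K = [] := List.isEmpty_iff.1 h
    simp [S.sum_WSFin_nil, Cert.chainP, Cert.evalP]
  | (k, L) :: rest, K, h, q => by
    simp only [Cert.chainOK, Bool.and_eq_true] at h
    rw [S.sum_WSFin_level hM h.1.2, sum_WSFin_chain hM rest _ h.2 q, Cert.chainP, Cert.evalP_mulP]

end SubData

end CfsgLib.InvTorus
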