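import Cfsg.Agent.Lib.InvTorus.RootRefl

/-!
The reflection subgroup of the roots of even level: its base, lengths and the deletion property.
-/

set_option autoImplicit false
set_option linter.dupNamespace false
set_option linter.unusedSectionVars false

namespace CfsgLib.InvTorus

open Cfsg.Lie Matrix CfsgLib.Chev CfsgLib.Chev.Chev

variable {D : ChevalleyDatum} (Φ : Chev D)

/-- The roots of even level for `e`. -/
def Ev (e : Fin D.rank → ℤ) (r : Fin D.nroots) : Prop := (2 : ℤ) ∣ ∑ i, e i * Φ.V r i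

/-- A base of the system of roots of even level, with coordinates. -/
structure SubData (e : Fin D.rank → ℤ) (l : ℕ) where
  β : Fin l → Fin D.nroots
  Q : Fin D.rank → Fin l → ℤ
  d : ℤ
  d_ne : d ≠ 0
  β_pos : ∀ i, Φ.toTables.Pos (β i)
  β_ev : ∀ i, Ev Φ e (β i)
  perm : ∀ i r, Φ.toTables.Pos r → Ev Φ e r → r ≠ β i →
    ∀ j, 0 ≤ Φ.V r j - pr Φ (β i) r * Φ.V (β i) j
  dual : ∀ m n, ∑ j, Φ.V (β m) j * Q j n = if m = n then d else 0
  base : ∀ r, Ev Φ e r → ∀ j, Φ.V r j = ∑ m, ((∑ i, Φ.V r i * Q i m) / d) * Φ.V (β m) j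
  nonneg : ∀ r, Φ.toTables.Pos r → Ev Φ e r → ∀ m, 0 ≤ (∑ i, Φ.V r i * Q i m) / d

namespace SubData

variable {Φ} {e : Fin D.rank → ℤ} {l : ℕ} (S : SubData Φ e l)

/-- The coordinates in the base. -/
def g (r : Fin D.nroots) (m : Fin l) : ℤ := (∑ i, Φ.V r i * S.Q i m) / S.d

/-- The reflections of the base. -/
noncomputable def sg (i : Fin l) : Equiv.Perm (Fin D.nroots) := rootRefl Φ (S.β i)

/-- The subgroup they generate. -/
noncomputable def WS (K : Set (Fin l)) : Subgroup (Equiv.Perm (Fin D.nroots)) :=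
  Subgroup.closure (S.sg '' K)

theorem g_spec {r : Fin D.nroots} (hr : Ev Φ e r) (n : Fin l) :
    ∑ i, Φ.V r i * S.Q i n = S.g r n * S.d := by
  have hb : ∀ j, Φ.V r j = ∑ m, S.g r m * Φ.V (S.β m) j := S.base r hr
  calc ∑ i, Φ.V r i * S.Q i n = ∑ i, ∑ m, S.g r m * (Φ.V (S.β m) i * S.Q i n) := by
        refine Finset.sum_congr rfl fun i _ => ?_
        rw [hb i, Finset.sum_mul]
        exact Finset.sum_congr rfl fun m _ => mul_assoc _ _ _
    _ = _ := by
        rw [Finset.sum_comm]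
        simp only [← Finset.mul_sum, S.dual, mul_ite, mul_zero, Finset.sum_ite_eq', Finset.mem_univ, if_true]

theorem g_beta (i n : Fin l) : S.g (S.β i) n = if i = n then 1 else 0 := by
  rw [g, S.dual]
  split_ifs
  · exact Int.ediv_self S.d_ne
  · exact Int.zero_ediv _

theorem sg_mem_WL (i : Fin l) : S.sg i ∈ Φ.WL := rootRefl_mem Φ _

theorem sg_inv (i : Fin l) : (S.sg i)⁻¹ = S.sg i := rootRefl_inv Φ _

theorem sg_mul_self (i : Fin l) : S.sg i * S.sg i = 1 := rootRefl_mul_self Φ _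

theorem sg_mem {K : Set (Fin l)} {i : Fin l} (h : i ∈ K) : S.sg i ∈ S.WS K :=
  Subgroup.subset_closure ⟨i, h, rfl⟩

theorem WS_mono {J K : Set (Fin l)} (h : J ⊆ K) : S.WS J ≤ S.WS K :=
  Subgroup.closure_mono (Set.image_mono h)

theorem WS_le_WL (K : Set (Fin l)) : S.WS K ≤ Φ.WL := by
  rw [WS, Subgroup.closure_le]
  rintro _ ⟨i, -, rfl⟩
  exact S.sg_mem_WL i

theorem ev_sg (i : Fin l) (r : Fin D.nroots) : Ev Φ e (S.sg i r) ↔ Ev Φ e r := by
  show (2 : ℤ) ∣ _ ↔ (2 : ℤ) ∣ _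
  rw [show ∑ j, e j * Φ.V (S.sg i r) j = ∑ j, e j * Φ.V r j - pr Φ (S.β i) r * ∑ j, e j * Φ.V (S.β i) j from ?_]
  · exact dvd_sub_left (dvd_mul_of_dvd_right (S.β_ev i) _)
  · rw [Finset.mul_sum, ← Finset.sum_sub_distrib]
    refine Finset.sum_congr rfl fun j _ => ?_
    rw [sg, V_rootRefl]
    ring

theorem ev_map {K : Set (Fin l)} {π : Equiv.Perm (Fin D.nroots)} (hπ : π ∈ S.WS K) (r : Fin D.nroots) :
    Ev Φ e (π r) ↔ Ev Φ e r := by
  induction hπ using Subgroup.closure_induction generalizing r with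
  | mem x hx => obtain ⟨i, -, rfl⟩ := hx; exact S.ev_sg i r
  | one => rfl
  | mul x y _ _ hx hy => rw [Equiv.Perm.mul_apply, hx, hy]
  | inv x _ hx => conv_rhs => rw [← x.apply_symm_apply r]
                  exact (hx _).symm

theorem ev_rev (r : Fin D.nroots) : Ev Φ e r.rev ↔ Ev Φ e r := by
  simp only [Ev, Φ.V_neg r, mul_neg, Finset.sum_neg_distrib, dvd_neg]

theorem g_rev {r : Fin D.nroots} (hr : Ev Φ e r) (n : Fin l) : S.g r.rev n = -S.g r n := by
  refine mul_right_cancel₀ S.d_ne ?_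
  rw [← S.g_spec ((ev_rev r).2 hr), neg_mul, ← S.g_spec hr]
  simp [Φ.V_neg r]

theorem g_sg (i : Fin l) {r : Fin D.nroots} (hr : Ev Φ e r) (n : Fin l) :
    S.g (S.sg i r) n = S.g r n - pr Φ (S.β i) r * (if i = n then 1 else 0) := by
  refine mul_right_cancel₀ S.d_ne ?_
  rw [← S.g_spec ((S.ev_sg i r).2 hr), sub_mul, ← S.g_spec hr]
  simp only [sg, V_rootRefl, sub_mul, Finset.sum_sub_distrib, mul_assoc, ← Finset.mul_sum, S.dual]
  split_ifs <;> ring

theorem g_map {π : Equiv.Perm (Fin D.nroots)} (hπ : π ∈ Φ.WL) (hev : ∀ s, Ev Φ e (π s) ↔ Ev Φ e s)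
    {r : Fin D.nroots} (hr : Ev Φ e r) (n : Fin l) :
    S.g (π r) n = ∑ m, S.g r m * S.g (π (S.β m)) n := by
  refine mul_right_cancel₀ S.d_ne ?_
  rw [← S.g_spec ((hev r).2 hr), Finset.sum_mul]
  have hV : ∀ j, Φ.V (π r) j = ∑ m, S.g r m * Φ.V (π (S.β m)) j := by
    intro j
    rw [Φ.V_map hπ]
    rw [Finset.sum_congr rfl fun k _ => congrArg (· * Φ.V (π (Φ.p k)) j)
      (show Φ.V r k = ∑ m, S.g r m * Φ.V (S.β m) k from S.base r hr k)]
    simp only [Finset.sum_mul, mul_assoc]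
    rw [Finset.sum_comm]
    refine Finset.sum_congr rfl fun m _ => ?_
    rw [← Finset.mul_sum, ← Φ.V_map hπ]
  simp only [hV, Finset.sum_mul, mul_assoc]
  rw [Finset.sum_comm]
  refine Finset.sum_congr rfl fun m _ => ?_
  rw [← Finset.mul_sum, S.g_spec ((hev _).2 (S.β_ev m))]

theorem g_nonpos {r : Fin D.nroots} (hp : ¬ Φ.toTables.Pos r) (hr : Ev Φ e r) (n : Fin l) : S.g r n ≤ 0 := by
  have := S.nonneg r.rev ((Φ.pos_rev_iff r).2 hp) ((ev_rev r).2 hr) n
  rw [show (∑ i, Φ.V r.rev i * S.Q i n) / S.d = S.g r.rev n from rfl, S.g_rev hr] at this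
  omega

theorem map_of_not_mem {K : Set (Fin l)} {π : Equiv.Perm (Fin D.nroots)} (h : π ∈ S.WS K)
    {r : Fin D.nroots} (hr : Ev Φ e r) {n : Fin l} (hn : n ∉ K) : S.g (π r) n = S.g r n := by
  induction h using Subgroup.closure_induction generalizing r with
  | mem x hx =>
    obtain ⟨i, hi, rfl⟩ := hx
    rw [S.g_sg i hr, if_neg (fun he => hn (by rw [← he]; exact hi)), mul_zero, sub_zero]
  | one => rfl
  | mul x y hx' hy' hx hy => rw [Equiv.Perm.mul_apply, hx ((S.ev_map hy' r).2 hr), hy hr]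
  | inv x hx' hx =>
    have := hx (r := x⁻¹ r) ((S.ev_map (Subgroup.inv_mem _ hx') r).2 hr)
    rw [show x (x⁻¹ r) = r from x.apply_symm_apply r] at this
    exact this.symm

theorem sg_pos (i : Fin l) {r : Fin D.nroots} (hp : Φ.toTables.Pos r) (hr : Ev Φ e r) (hne : r ≠ S.β i) :
    Φ.toTables.Pos (S.sg i r) := by
  rw [Φ.pos_iff_V_nonneg]
  intro j
  rw [sg, V_rootRefl]
  exact S.perm i r hp hr hne j

theorem sg_pos_iff (i : Fin l) {r : Fin D.nroots} (hr : Ev Φ e r) (h1 : r ≠ S.β i) (h2 : r ≠ (S.β i).rev) :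
    Φ.toTables.Pos (S.sg i r) ↔ Φ.toTables.Pos r := by
  refine ⟨fun h => by_contra fun hn => ?_, fun h => S.sg_pos i h hr h1⟩
  have := S.sg_pos i ((Φ.pos_rev_iff r).2 hn) ((ev_rev r).2 hr) fun he => h2 (by rw [← he, Fin.rev_rev])
  rw [Φ.map_rev (S.sg_mem_WL i)] at this
  exact (Φ.pos_rev_iff _).1 this h

/-- The product of a word in the reflections of the base. -/
noncomputable def wd (w : List (Fin l)) : Equiv.Perm (Fin D.nroots) := (w.map S.sg).prod

theorem wd_mem {K : Set (Fin l)} {w : List (Fin l)} (h : ∀ i ∈ w, i ∈ K) : S.wd w ∈ S.WS K :=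
  Subgroup.list_prod_mem _ fun x hx => by
    obtain ⟨i, hi, rfl⟩ := List.mem_map.1 hx
    exact S.sg_mem (h i hi)

theorem exists_wd {K : Set (Fin l)} {π : Equiv.Perm (Fin D.nroots)} (hπ : π ∈ S.WS K) :
    ∃ w : List (Fin l), S.wd w = π := by
  induction hπ using Subgroup.closure_induction_left with
  | one => exact ⟨[], rfl⟩
  | mul_left x hx y hy ih =>
    obtain ⟨i, -, rfl⟩ := hx
    obtain ⟨w, rfl⟩ := ih
    exact ⟨i :: w, rfl⟩
  | inv_mul_cancel x hx y hy ih =>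
    obtain ⟨i, -, rfl⟩ := hx
    obtain ⟨w, rfl⟩ := ih
    exact ⟨i :: w, by rw [S.sg_inv]; rfl⟩

/-- The exchange condition. -/
theorem exchange {j : Fin l} : ∀ {w : List (Fin l)}, ¬ Φ.toTables.Pos (S.wd w (S.β j)) →
    ∃ w' : List (Fin l), w'.length < w.length ∧ S.wd w' = S.wd w * S.sg j
  | [], h => absurd (S.β_pos j) h
  | a :: w, h => by
    have e1 : S.wd (a :: w) = S.sg a * S.wd w := rfl
    by_cases hw : Φ.toTables.Pos (S.wd w (S.β j))
    · refine ⟨w, by simp, ?_⟩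
      have hev : Ev Φ e (S.wd w (S.β j)) := (S.ev_map (S.wd_mem (K := Set.univ) fun i _ => Set.mem_univ i) _).2 (S.β_ev j)
      have heq : S.wd w (S.β j) = S.β a := by
        by_contra hne
        exact h (by rw [e1, Equiv.Perm.mul_apply]; exact S.sg_pos a hw hev hne)
      rw [e1, mul_assoc, sg, sg, rootRefl_conj Φ (S.WS_le_WL Set.univ (S.wd_mem fun i _ => Set.mem_univ i)),
        heq, ← mul_assoc, rootRefl_mul_self, one_mul]
    · obtain ⟨w', hlen, he⟩ := exchange hw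
      exact ⟨a :: w', by simp [hlen], by rw [e1, mul_assoc, ← he]; rfl⟩

/-- A non-trivial element makes some root of the base negative. -/
theorem exists_neg_base {K : Set (Fin l)} {π : Equiv.Perm (Fin D.nroots)} (hπ : π ∈ S.WS K) (h1 : π ≠ 1) :
    ∃ j, ¬ Φ.toTables.Pos (π⁻¹ (S.β j)) := by
  classical
  have hex : ∃ n, ∃ w : List (Fin l), w.length = n ∧ S.wd w = π⁻¹ := by
    obtain ⟨w, hw⟩ := S.exists_wd (Subgroup.inv_mem _ hπ)
    exact ⟨_, w, rfl, hw⟩
  obtain ⟨w, hlen, hw⟩ := Nat.find_spec hex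
  rcases List.eq_nil_or_concat w with rfl | ⟨w0, j, rfl⟩
  · exact absurd (inv_eq_one.1 hw.symm) h1
  refine ⟨j, fun hp => ?_⟩
  have e2 : S.wd (w0.concat j) = S.wd w0 * S.sg j := by simp [wd]
  have hneg : ¬ Φ.toTables.Pos (S.wd w0 (S.β j)) := by
    rw [← hw, e2, Equiv.Perm.mul_apply, sg, rootRefl_self,
      Φ.map_rev (S.WS_le_WL Set.univ (S.wd_mem fun i _ => Set.mem_univ i)), Φ.pos_rev_iff] at hp
    exact hp
  obtain ⟨w', hlt, he⟩ := S.exchange hneg
  refine Nat.find_min hex (m := w'.length) ?_ ⟨w', rfl, ?_⟩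
  · rw [← hlen, List.length_concat]
    omega
  · rw [he, ← e2, hw]

/-- The positive roots of even level made negative. -/
noncomputable def invSetS (_S : SubData Φ e l) (π : Equiv.Perm (Fin D.nroots)) : Finset (Fin D.nroots) :=
  letI := Classical.decPred fun r => (Φ.toTables.Pos r ∧ ¬ Φ.toTables.Pos (π r)) ∧ Ev Φ e r
  Finset.univ.filter fun r => (Φ.toTables.Pos r ∧ ¬ Φ.toTables.Pos (π r)) ∧ Ev Φ e r

theorem mem_invSetS {π : Equiv.Perm (Fin D.nroots)} {r : Fin D.nroots} :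
    r ∈ S.invSetS π ↔ (Φ.toTables.Pos r ∧ ¬ Φ.toTables.Pos (π r)) ∧ Ev Φ e r := by
  simp [invSetS]

/-- The number of positive roots of even level made negative. -/
noncomputable def invS (π : Equiv.Perm (Fin D.nroots)) : ℕ := (S.invSetS π).card

theorem invS_one : S.invS 1 = 0 := by
  rw [invS, Finset.card_eq_zero, Finset.eq_empty_iff_forall_notMem]
  exact fun r h => (S.mem_invSetS.1 h).1.2 (S.mem_invSetS.1 h).1.1

theorem invS_sg_mul {K : Set (Fin l)} {π : Equiv.Perm (Fin D.nroots)} (h : π ∈ S.WS K) (i : Fin l)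
    (hi : Φ.toTables.Pos (π⁻¹ (S.β i))) : S.invS (S.sg i * π) = S.invS π + 1 := by
  classical
  have hev0 : Ev Φ e (π⁻¹ (S.β i)) := (S.ev_map (Subgroup.inv_mem _ h) _).2 (S.β_ev i)
  have hne : π⁻¹ (S.β i) ∉ S.invSetS π := fun hm => (S.mem_invSetS.1 hm).1.2 (by simpa using S.β_pos i)
  rw [invS, invS, ← Finset.card_insert_of_notMem hne]
  congr 1
  ext r
  rw [Finset.mem_insert, S.mem_invSetS, S.mem_invSetS]
  show (_ ∧ ¬ Φ.toTables.Pos (S.sg i (π r))) ∧ _ ↔ _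
  by_cases h1 : π r = S.β i
  · have hr : r = π⁻¹ (S.β i) := by rw [← h1]; simp
    rw [h1, sg, rootRefl_self, Φ.pos_rev_iff, not_not]
    exact ⟨fun _ => Or.inl hr, fun _ => ⟨⟨hr ▸ hi, S.β_pos i⟩, hr ▸ hev0⟩⟩
  · have h1' : r ≠ π⁻¹ (S.β i) := fun e' => h1 (by rw [e']; simp)
    by_cases h2 : π r = (S.β i).rev
    · have : ¬ Φ.toTables.Pos r := by
        have e' : r = (π⁻¹ (S.β i)).rev := by
          rw [← Φ.map_rev (inv_mem (S.WS_le_WL K h)), ← h2]; simp
        rw [e', Φ.pos_rev_iff, not_not]; exact hi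
      exact ⟨fun e' => absurd e'.1.1 this, fun e' => e'.elim (absurd · h1') fun e' => absurd e'.1.1 this⟩
    · constructor
      · rintro ⟨⟨a, b⟩, c⟩
        exact Or.inr ⟨⟨a, by rwa [S.sg_pos_iff i ((S.ev_map h r).2 c) h1 h2] at b⟩, c⟩
      · intro e'
        obtain ⟨⟨a, b⟩, c⟩ := e'.resolve_left h1'
        exact ⟨⟨a, by rwa [S.sg_pos_iff i ((S.ev_map h r).2 c) h1 h2]⟩, c⟩

theorem invS_of_neg {π : Equiv.Perm (Fin D.nroots)} (h : π ∈ S.WS Set.univ) (i : Fin l)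
    (hi : ¬ Φ.toTables.Pos (π⁻¹ (S.β i))) : S.invS π = S.invS (S.sg i * π) + 1 := by
  have hm : S.sg i * π ∈ S.WS Set.univ := mul_mem (S.sg_mem (Set.mem_univ i)) h
  have := S.invS_sg_mul hm i (by
    rw [_root_.mul_inv_rev, S.sg_inv, Equiv.Perm.mul_apply, sg, rootRefl_self,
      Φ.map_rev (inv_mem (S.WS_le_WL _ h)), Φ.pos_rev_iff]
    exact hi)
  rwa [← mul_assoc, S.sg_mul_self, one_mul] at this

end SubData

end CfsgLib.InvTorus
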