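import Cfsg.Agent.Lib.InvTorus.Stab
import Cfsg.Agent.Lib.InvTorus.Reduce

/-!
Certificates read off the tables: the coordinates of the roots and the bases of the subsystems.
-/

set_option autoImplicit false
set_option linter.dupNamespace false
set_option linter.unusedSectionVars false

namespace CfsgLib.InvTorus

open Cfsg.Lie Matrix CfsgLib.Chev CfsgLib.Chev.Chev

variable {D : ChevalleyDatum}

/-- The Cartan matrix, its inverse and the coordinates of the roots. -/
structure RootTab (D : ChevalleyDatum) where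
  M : Fin D.rank → Fin D.rank → ℤ
  Ainv : Fin D.rank → Fin D.rank → ℤ
  Vl : List (List ℤ)
  hlen : Vl.length = D.nroots
  hM : ∀ a b : Fin D.rank, D.cartan a.val (D.simple b.val) = M a b
  hinv : ∀ j k : Fin D.rank, ∑ i, Ainv j i * M i k = if j = k then 1 else 0
  hV : ∀ (i : Fin D.rank) (r : Fin D.nroots), D.cartan i.val r.val = ∑ k, M i k * Cert.get (Vl.getD r.val []) k

namespace RootTab

variable (T : RootTab D) (Φ : Chev D)

/-- The coordinates of a root. -/
def row (r : Fin D.nroots) : List ℤ := T.Vl.getD r.val []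

theorem A_eq (a b : Fin D.rank) : Φ.A a (Φ.p b) = T.M a b := by
  rw [← T.hM, Φ.simple_val, Φ.cartan_val]

theorem V_eq (r : Fin D.nroots) (j : Fin D.rank) : Φ.V r j = Cert.get (T.row r) j := by
  have h : ∀ i, ∑ k, T.M i k * Φ.V r k = ∑ k, T.M i k * Cert.get (T.row r) k := fun i => by
    rw [row, ← T.hV, Φ.cartan_val, Φ.A_lin i r]
    exact Finset.sum_congr rfl fun k _ => by rw [T.A_eq Φ, mul_comm]
  have h2 : ∀ f : Fin D.rank → ℤ, ∑ i, T.Ainv j i * ∑ k, T.M i k * f k = f j := fun f => by
    simp only [Finset.mul_sum, ← mul_assoc]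
    rw [Finset.sum_comm]
    simp only [← Finset.sum_mul, T.hinv, ite_mul, one_mul, zero_mul, Finset.sum_ite_eq, Finset.mem_univ, if_true]
  rw [← h2 (Φ.V r), ← h2 (Cert.get (T.row r))]
  simp only [h]

theorem A_root (i : Fin D.rank) (r : Fin D.nroots) : Φ.A i r = ∑ k, T.M i k * Cert.get (T.row r) k := by
  rw [Φ.A_lin i r]
  exact Finset.sum_congr rfl fun k _ => by rw [T.A_eq Φ, T.V_eq Φ, mul_comm]

theorem row_mem (r : Fin D.nroots) : T.row r ∈ T.Vl := by
  have h : r.val < T.Vl.length := by rw [T.hlen]; exact r.isLt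
  rw [row, List.getD_eq_getElem?_getD, List.getElem?_eq_getElem h, Option.getD_some]
  exact List.getElem_mem h

end RootTab

/-- A base of a subsystem as literal data. -/
structure BaseTab (D : ChevalleyDatum) (l : ℕ) where
  e : Fin D.rank → ℤ
  βi : Fin l → Fin D.nroots
  βV : Fin l → List ℤ
  βC : Fin l → List ℤ
  Q : Fin l → List ℤ
  d : ℤ
  N : ℕ

namespace BaseTab

variable {l : ℕ} (B : BaseTab D l)

/-- The row has even level. -/
def evB (row : List ℤ) : Bool := (∑ i, B.e i * Cert.get row i) % 2 == 0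

/-- The row is positive. -/
def posB (D : ChevalleyDatum) (row : List ℤ) : Bool := decide (∀ j : Fin D.rank, 0 ≤ Cert.get row j)

/-- The coordinate of the row in the base. -/
def gRow (row : List ℤ) (m : Fin l) : ℤ := (∑ i : Fin D.rank, Cert.get row i * Cert.get (B.Q m) i) / B.d

/-- The pairing of the row with a coroot of the base. -/
def prRow (M : Fin D.rank → Fin D.rank → ℤ) (row : List ℤ) (i : Fin l) : ℤ :=
  ∑ k : Fin D.rank, Cert.get (B.βC i) k * ∑ m, M k m * Cert.get row m

/-- The checks for one root. -/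
def rowOK (M : Fin D.rank → Fin D.rank → ℤ) (row : List ℤ) : Bool :=
  !B.evB row ||
    (decide (∀ j : Fin D.rank, Cert.get row j = ∑ m, B.gRow row m * Cert.get (B.βV m) j) &&
      (!posB D row ||
        (decide (∀ m, 0 ≤ B.gRow row m) &&
          decide (∀ i, (∀ j : Fin D.rank, Cert.get row j = Cert.get (B.βV i) j) ∨
            ∀ j : Fin D.rank, 0 ≤ Cert.get row j - B.prRow M row i * Cert.get (B.βV i) j))))

/-- The number of positive roots of even level. -/
def countEv (T : RootTab D) : ℕ :=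
  ((List.finRange D.nroots).filter fun r => posB D (T.row r) && B.evB (T.row r)).length

/-- The validity of the data. -/
structure OK (T : RootTab D) : Prop where
  d_ne : B.d ≠ 0
  hβV : ∀ m, T.Vl.getD (B.βi m).val [] = B.βV m
  hβC : ∀ (m : Fin l) (k : Fin D.rank), (D.coroot.getD (B.βi m).val #[]).getD k.val 0 = Cert.get (B.βC m) k
  hβ : ∀ m, (posB D (B.βV m) && B.evB (B.βV m)) = true
  hdual : ∀ m n, ∑ j : Fin D.rank, Cert.get (B.βV m) j * Cert.get (B.Q n) j = if m = n then B.d else 0
  hrows : (T.Vl.all (B.rowOK T.M)) = true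
  hN : B.countEv T = B.N

variable {B} {T : RootTab D} (Φ : Chev D)

theorem evB_iff (r : Fin D.nroots) : B.evB (T.row r) = true ↔ Ev Φ B.e r := by
  simp only [evB, beq_iff_eq, Ev, Int.dvd_iff_emod_eq_zero, T.V_eq Φ]

theorem posB_iff (r : Fin D.nroots) : posB D (T.row r) = true ↔ Φ.toTables.Pos r := by
  simp only [posB, decide_eq_true_eq, Φ.pos_iff_V_nonneg, T.V_eq Φ]

theorem V_beta (h : B.OK T) (m : Fin l) (j : Fin D.rank) : Φ.V (B.βi m) j = Cert.get (B.βV m) j := by
  rw [T.V_eq Φ, RootTab.row, h.hβV]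

theorem pr_eq (h : B.OK T) (i : Fin l) (r : Fin D.nroots) : pr Φ (B.βi i) r = B.prRow T.M (T.row r) i := by
  refine Finset.sum_congr rfl fun k _ => ?_
  rw [← Φ.coroot_eq, h.hβC, T.A_root Φ]

theorem row_spec (h : B.OK T) (r : Fin D.nroots) (he : Ev Φ B.e r) :
    (∀ j : Fin D.rank, Cert.get (T.row r) j = ∑ m, B.gRow (T.row r) m * Cert.get (B.βV m) j) ∧
      (Φ.toTables.Pos r → (∀ m, 0 ≤ B.gRow (T.row r) m) ∧
        ∀ i, (∀ j : Fin D.rank, Cert.get (T.row r) j = Cert.get (B.βV i) j) ∨
          ∀ j : Fin D.rank, 0 ≤ Cert.get (T.row r) j - B.prRow T.M (T.row r) i * Cert.get (B.βV i) j) := by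
  have h1 := List.all_eq_true.1 h.hrows _ (T.row_mem r)
  rw [rowOK, (evB_iff Φ r).2 he] at h1
  simp only [Bool.not_true, Bool.false_or, Bool.and_eq_true, decide_eq_true_eq, Bool.or_eq_true] at h1
  refine ⟨h1.1, fun hp => ?_⟩
  rcases h1.2 with h2 | h2
  · rw [(posB_iff Φ r).2 hp] at h2
    simp at h2
  · exact h2

/-- The base of the subsystem. -/
def toSub (h : B.OK T) : SubData Φ B.e l where
  β := B.βi
  Q := fun i m => Cert.get (B.Q m) i
  d := B.d
  d_ne := h.d_ne
  β_pos := fun i => by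
    have := h.hβ i
    rw [← h.hβV, Bool.and_eq_true] at this
    exact (posB_iff Φ _).1 this.1
  β_ev := fun i => by
    have := h.hβ i
    rw [← h.hβV, Bool.and_eq_true] at this
    exact (evB_iff Φ _).1 this.2
  perm := fun i r hp he hne j => by
    rw [T.V_eq Φ, V_beta Φ h, pr_eq Φ h]
    rcases ((row_spec Φ h r he).2 hp).2 i with h2 | h2
    · exact absurd (Φ.toSys.V_inj fun k => by rw [T.V_eq Φ, V_beta Φ h, h2]) hne
    · exact h2 j
  dual := fun m n => by
    simp only [V_beta Φ h]
    exact h.hdual m n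
  base := fun r he j => by
    simp only [T.V_eq Φ r, V_beta Φ h]
    exact (row_spec Φ h r he).1 j
  nonneg := fun r hp he m => by
    simp only [T.V_eq Φ r]
    exact ((row_spec Φ h r he).2 hp).1 m

theorem card_posEv (h : B.OK T) : (posEv Φ B.e).card = B.N := by
  rw [← h.hN, countEv, ← List.toFinset_card_of_nodup ((List.nodup_finRange _).filter _)]
  refine congrArg Finset.card ?_
  ext r
  rw [mem_posEv, List.mem_toFinset, List.mem_filter]
  simp only [List.mem_finRange, true_and, Bool.and_eq_true, posB_iff Φ, evB_iff Φ]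

/-- The matrix of pairings of the base. -/
def MS (B : BaseTab D l) (M : Fin D.rank → Fin D.rank → ℤ) (a b : Fin l) : ℤ := B.prRow M (B.βV b) a

theorem MS_eq (h : B.OK T) (a b : Fin l) : pr Φ (B.βi a) (B.βi b) = B.MS T.M a b := by
  rw [pr_eq Φ h, RootTab.row, h.hβV]
  rfl

end BaseTab

end CfsgLib.InvTorus
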